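import Cfsg.Agent.Lib.CoprimeZJ.Fixed
import Cfsg.Agent.Lib.QuadRoot.QuasiSimple
import Cfsg.Agent.Lib.Involves.Basic

/-!
Coprime operators of a reduced quadratic linear group centralise a section `PSL₂(p)`.
* `involves_centralizer`
-/

set_option autoImplicit false
set_option linter.unusedSectionVars false
set_option linter.style.haveILetI false

namespace Cfsg.Agent.CoprimeZJ

open Cfsg Module Cfsg.Agent.QuadRoot
open scoped MatrixGroups Pointwise

universe u v w

theorem involves_of_kernel {S G Q : Type*} [Group S] [Group G] [Group Q] (f : S →* G) (q : S →* Q)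
    (hq : Function.Surjective q) (h : f.ker ≤ q.ker) : Cfsg.Involves Q G := by
  refine Involves.involves_of_hom (K := f.range) (f.rangeRestrict.liftOfSurjective f.rangeRestrict_surjective
    ⟨q, by rwa [MonoidHom.ker_rangeRestrict]⟩) fun x => ?_
  obtain ⟨s, rfl⟩ := hq x
  exact ⟨f.rangeRestrict s, MonoidHom.liftOfRightInverse_comp_apply _ _ _ ⟨q, _⟩ s⟩

variable {k : Type u} [Field k] {M : Type v} [AddCommGroup M] [Module k M] [Finite M] [FiniteDimensional k M]
  {X B : Subgroup (LinearMap.GeneralLinearGroup k M)} {p : ℕ} [hp : Fact p.Prime] [CharP k p]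

theorem conj_member {g : LinearMap.GeneralLinearGroup k M}
    (hg : g ∈ Subgroup.normalizer (X : Set (LinearMap.GeneralLinearGroup k M))) {C : Subgroup _}
    (hC : C ∈ quadraticRootSubgroups X) : conjBy C g ∈ quadraticRootSubgroups X := by
  obtain ⟨c, hc, rfl⟩ := mem_quadraticRootSubgroups.1 hC
  exact mem_quadraticRootSubgroups.2 ⟨_, dmin_cj hg hc, cl_cj hg hc⟩

theorem reach_conj_normalizer {g : LinearMap.GeneralLinearGroup k M}
    (hg : g ∈ Subgroup.normalizer (X : Set (LinearMap.GeneralLinearGroup k M))) {C D : Subgroup _}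
    (h : RankOne.FReach (quadraticRootSubgroups X) C D) :
    RankOne.FReach (quadraticRootSubgroups X) (conjBy C g) (conjBy D g) := by
  induction h with
  | refl => exact .refl
  | tail _ e ih =>
    exact ih.tail ⟨conj_member hg e.1, conj_member hg e.2.1, RankOne.isRankOnePair_conjBy e.2.2 g⟩

theorem partGroup_conj_le {g : LinearMap.GeneralLinearGroup k M}
    (hg : g ∈ Subgroup.normalizer (X : Set (LinearMap.GeneralLinearGroup k M))) (A : Subgroup _) :
    conjBy (partGroup X A) g ≤ partGroup X (conjBy A g) := by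
  simp only [conjBy, Subgroup.map_iSup]
  exact iSup₂_le fun C hC => le_partGroup ⟨conj_member hg hC.1, reach_conj_normalizer hg hC.2⟩

theorem involves_centralizer (hp5 : 5 ≤ p) (hk2 : ringChar k ≠ 2) (hk3 : Nat.card k ≠ 3) (hred : Reduced X)
    (hne : ∃ c, InG X c ∧ c ≠ 0) (hBX : B ≤ Subgroup.normalizer (X : Set (LinearMap.GeneralLinearGroup k M)))
    (hcop : (Nat.card B).Coprime (Nat.card X)) {Fld : Type w} [Field Fld] (e : ZMod p ≃+* Fld) :
    Cfsg.Involves (Matrix.ProjectiveSpecialLinearGroup (Fin 2) Fld)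
      ↥(X ⊓ Subgroup.centralizer (B : Set (LinearMap.GeneralLinearGroup k M))) := by
  classical
  obtain ⟨a, ha⟩ := Dmin.exists_of_ne_bot hne
  obtain ⟨b, hb, ho⟩ := exists_opp hk2 hk3 hred ha
  set A := cl X a
  have hA : A ∈ quadraticRootSubgroups X := mem_quadraticRootSubgroups.2 ⟨a, ha, rfl⟩
  have hodd : Odd (Nat.card B) :=
    Nat.coprime_two_right.1 (hcop.coprime_dvd_right (two_dvd_card hk2 hk3 ha hb ho))
  -- the stabiliser of the part
  let B₁ : Subgroup (LinearMap.GeneralLinearGroup k M) :=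
    { carrier := {g | g ∈ B ∧ RankOne.FReach (quadraticRootSubgroups X) A (conjBy A g)}
      one_mem' := ⟨one_mem _, by rw [RankOne.conjBy_one]⟩
      mul_mem' := fun {g h} (hg : _ ∧ _) (hh : _ ∧ _) => ⟨mul_mem hg.1 hh.1, by
        rw [← RankOne.conjBy_conjBy]
        exact hg.2.trans (reach_conj_normalizer (hBX hg.1) hh.2)⟩
      inv_mem' := fun {g} (hg : _ ∧ _) => ⟨inv_mem hg.1, by
        have h := RankOne.fReach_symm (reach_conj_normalizer (hBX (inv_mem hg.1)) hg.2)
        rwa [RankOne.conjBy_inv_conjBy] at h⟩ }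
  have hB₁ : B₁ ≤ B := fun g hg => hg.1
  set P := partGroup X A
  have hPX : P ≤ X := partGroup_le.trans sigmaJoin_le
  have hB₁P : B₁ ≤ Subgroup.normalizer (P : Set (LinearMap.GeneralLinearGroup k M)) := fun g hg =>
    Coprime.mem_normalizer_of_forall fun x hx => by
      have h : partGroup X (conjBy A g) ≤ P := iSup₂_le fun C hC => le_partGroup ⟨hC.1, hg.2.trans hC.2⟩
      exact h (partGroup_conj_le (hBX hg.1) A (RankOne.conj_mem_conjBy g hx))
  obtain ⟨w, hw, hwB⟩ := Coprime.exists_invariant_conj hB₁P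
    ((hcop.coprime_dvd_left (Subgroup.card_dvd_of_le hB₁)).coprime_dvd_right (Subgroup.card_dvd_of_le hPX))
    (Or.inl (Coprime.isSolvable_of_le hB₁ (OddOrderTheorem.solvable hodd))) (P := A) fun g hg => by
      obtain ⟨x, hx, hxe⟩ := exists_part_conj hk2 hk3 hred (A := A) ⟨hA, .refl⟩ ⟨conj_member (hBX hg.1) hA, hg.2⟩
      exact ⟨x, hx, by rw [conj_smul_eq, conj_smul_eq, hxe]⟩
  have hwN := Subgroup.le_normalizer (H := X) (hPX hw)
  rw [conj_smul_eq, cl_cj hwN ha] at hwB
  obtain ⟨b', f, hb', ho', hfinj, hfsup, hfC⟩ := exists_fixed_sl2 hp5 hk2 hk3 (dmin_cj hwN ha) (dmin_cj hwN hb)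
    (opp_cj w ho) (hB₁.trans hBX) (hcop.coprime_dvd_left (Subgroup.card_dvd_of_le hB₁)) hwB
  have hmem : cl X (cj w a) ∈ part X A := ⟨mem_quadraticRootSubgroups.2 ⟨_, dmin_cj hwN ha, rfl⟩, by
    rw [← cl_cj hwN ha]; exact reach_conj hk2 hk3 hred hA (partGroup_le hw)⟩
  have hfP : f.range ≤ P := hfsup.trans (sup_le (le_partGroup hmem) (le_partGroup
    ⟨mem_quadraticRootSubgroups.2 ⟨_, hb', rfl⟩, hmem.2.trans (RankOne.fReach_adj hmem.1
      (mem_quadraticRootSubgroups.2 ⟨_, hb', rfl⟩) (rankOne_pair hk2 hk3 (dmin_cj hwN ha) hb' ho'))⟩))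
  -- the translates
  haveI : Finite B := inferInstance
  let Q := B ⧸ B₁.subgroupOf B
  haveI : Fintype Q := Fintype.ofFinite Q
  let φ : Q → SL(2, ZMod p) →* LinearMap.GeneralLinearGroup k M := fun q =>
    (MulAut.conj (q.out : LinearMap.GeneralLinearGroup k M)).toMonoidHom.comp f
  have hφB₁ : ∀ (h : B) (s : SL(2, ZMod p)),
      (h : LinearMap.GeneralLinearGroup k M) * f s * (h : LinearMap.GeneralLinearGroup k M)⁻¹ = φ (h : Q) s := by
    intro h s
    obtain ⟨⟨c, hc⟩, hce⟩ := QuotientGroup.mk_out_eq_mul (B₁.subgroupOf B) h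
    show _ = ((h : Q).out : LinearMap.GeneralLinearGroup k M) * f s * ((h : Q).out : LinearMap.GeneralLinearGroup k M)⁻¹
    rw [show (((h : Q).out : B) : LinearMap.GeneralLinearGroup k M) = (h : LinearMap.GeneralLinearGroup k M) * c by
      rw [hce]; rfl]
    have hcomm := Subgroup.mem_centralizer_iff.1 (hfC ⟨s, rfl⟩).2 _ (Subgroup.mem_subgroupOf.1 hc)
    rw [mul_inv_rev, mul_assoc (h : LinearMap.GeneralLinearGroup k M) (c : LinearMap.GeneralLinearGroup k M), hcomm]
    group
  have hcomm : Pairwise fun q r => ∀ s t, Commute (φ q s) (φ r t) := by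
    intro q r hqr s t
    have hn : ¬ RankOne.FReach (quadraticRootSubgroups X) (conjBy A (q.out : LinearMap.GeneralLinearGroup k M))
        (conjBy A (r.out : LinearMap.GeneralLinearGroup k M)) := fun h => hqr (by
      rw [← q.out_eq', ← r.out_eq', QuotientGroup.eq, Subgroup.mem_subgroupOf]
      have h' := reach_conj_normalizer (hBX (inv_mem q.out.2)) h
      rw [RankOne.conjBy_inv_conjBy, RankOne.conjBy_conjBy] at h'
      exact ⟨mul_mem (inv_mem q.out.2) r.out.2, h'⟩)
    have h1 : φ q s ∈ partGroup X (conjBy A (q.out : LinearMap.GeneralLinearGroup k M)) :=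
      partGroup_conj_le (hBX q.out.2) A (RankOne.conj_mem_conjBy _ (hfP ⟨s, rfl⟩))
    have h2 : φ r t ∈ partGroup X (conjBy A (r.out : LinearMap.GeneralLinearGroup k M)) :=
      partGroup_conj_le (hBX r.out.2) A (RankOne.conj_mem_conjBy _ (hfP ⟨t, rfl⟩))
    exact (Subgroup.mem_centralizer_iff.1
      (Subgroup.commutator_eq_bot_iff_le_centralizer.1 (parts_commute hk2 hk3 hred hn) h1) _ h2).symm
  let F : SL(2, ZMod p) →* LinearMap.GeneralLinearGroup k M :=
    (MonoidHom.noncommPiCoprod φ hcomm).comp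
      { toFun := fun s (_ : Q) => s, map_one' := rfl, map_mul' := fun _ _ => rfl }
  have hFdef : ∀ s, F s = (Finset.univ : Finset Q).noncommProd (fun q => φ q s)
      (fun q _ r _ hqr => hcomm hqr s s) := fun s => rfl
  have hFC : ∀ s, F s ∈ X ⊓ Subgroup.centralizer (B : Set (LinearMap.GeneralLinearGroup k M)) := by
    intro s
    refine ⟨?_, Subgroup.mem_centralizer_iff.2 fun h hh => mul_inv_eq_iff_eq_mul.1 ?_⟩
    · rw [hFdef]
      exact Subgroup.noncommProd_mem _ _ fun q _ =>
        (Subgroup.mem_normalizer_iff.1 (hBX q.out.2) _).1 (hfC ⟨s, rfl⟩).1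
    · rw [hFdef]
      show MulAut.conj h _ = _
      refine (Finset.map_noncommProd Finset.univ (fun q => φ q s) _ (MulAut.conj h).toMonoidHom).trans ?_
      show Finset.univ.noncommProd (fun q => MulAut.conj h (φ q s)) _ = _
      have e : ∀ q : Q, MulAut.conj h (φ q s) = φ ((⟨h, hh⟩ : B) • q) s := by
        intro q
        conv_rhs => rw [← q.out_eq']
        rw [MulAction.Quotient.smul_coe, ← hφB₁]
        show h * (_ * f s * _) * h⁻¹ = _
        simp only [smul_eq_mul, Subgroup.coe_mul]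
        group
      simp only [e]
      unfold Finset.noncommProd
      congr 1
      refine (Multiset.map_map (fun q => φ q s) (fun q : Q => (⟨h, hh⟩ : B) • q) _).symm.trans ?_
      congr 1
      exact Multiset.map_univ_val_equiv (MulAction.toPerm (⟨h, hh⟩ : B))
  set F' := F.codRestrict _ hFC
  refine involves_of_kernel F'
    ((QuotientGroup.mk' _).comp (Matrix.SpecialLinearGroup.map (e : ZMod p →+* Fld))) ?_ ?_
  · refine (QuotientGroup.mk'_surjective _).comp fun y => ?_
    refine ⟨Matrix.SpecialLinearGroup.map (e.symm : Fld →+* ZMod p) y, Subtype.ext ?_⟩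
    ext i j; simp
  · intro s hs
    have hs1 : F s = 1 := congrArg Subtype.val (MonoidHom.mem_ker.1 hs)
    have hcen : ∀ t, s * t = t * s := by
      intro t
      set q₀ : Q := ((1 : B) : Q)
      have h1 : φ q₀ s = f s := by rw [← hφB₁]; simp
      rw [hFdef] at hs1
      replace hs1 := (Finset.mul_noncommProd_erase Finset.univ (Finset.mem_univ q₀) (fun q => φ q s) _).trans hs1
      rw [h1, mul_eq_one_iff_eq_inv] at hs1
      have h2 : Commute (f t) ((Finset.univ.erase q₀).noncommProd (fun q => φ q s)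
          (fun q _ r _ hqr => hcomm hqr s s)) := by
        refine Finset.noncommProd_commute _ _ _ _ fun q hq => ?_
        have h3 := hcomm (Finset.ne_of_mem_erase hq).symm t s
        rwa [show φ q₀ t = f t by rw [← hφB₁]; simp] at h3
      refine hfinj ?_
      rw [map_mul, map_mul, hs1]
      exact h2.inv_right.symm
    rw [MonoidHom.mem_ker, MonoidHom.comp_apply, QuotientGroup.mk'_apply, QuotientGroup.eq_one_iff,
      Subgroup.mem_center_iff]
    intro y
    have hsurj : Matrix.SpecialLinearGroup.map (e : ZMod p →+* Fld)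
        (Matrix.SpecialLinearGroup.map (e.symm : Fld →+* ZMod p) y) = y := Subtype.ext (by ext i j; simp)
    rw [← hsurj, ← map_mul, ← map_mul, hcen]

end Cfsg.Agent.CoprimeZJ
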