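import Cfsg.Agent.Lib.CoprimeZJ.Orbit
import Cfsg.Agent.Lib.OddOrderTheorem.Basic

/-!
A coprime operator group `B` of `X` fixing the class of a minimal element centralises an `SL₂(p)` in `X`.
* `exists_fixed_opp` : `B` fixes a class opposite to `a`
* `exists_fixed_in_class` : `B` fixes a member of a fixed class
* `exists_fixed_sl2`
-/

set_option autoImplicit false
set_option linter.unusedSectionVars false
set_option linter.style.haveILetI false

namespace Cfsg.Agent.CoprimeZJ

open Cfsg Module Cfsg.Agent.QuadRoot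
open scoped MatrixGroups Pointwise

universe u v

variable {k : Type u} [Field k] {M : Type v} [AddCommGroup M] [Module k M] [Finite M] [FiniteDimensional k M]
  {X B : Subgroup (LinearMap.GeneralLinearGroup k M)} {a b y : Module.End k M}
  {g u : LinearMap.GeneralLinearGroup k M} {p : ℕ} [hp : Fact p.Prime] [CharP k p]

theorem conj_smul_eq {G : Type*} [Group G] (g : G) (P : Subgroup G) : MulAut.conj g • P = conjBy P g := by
  ext x
  rw [Coprime.mem_conj, RankOne.mem_conjBy]

theorem fix_flag (hg : g ∈ Subgroup.normalizer (X : Set (LinearMap.GeneralLinearGroup k M))) (ha : Dmin X a)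
    (hga : g ∈ Subgroup.normalizer ((cl X a : Subgroup (LinearMap.GeneralLinearGroup k M)) : Set _)) :
    (LinearMap.range a).map (g : Module.End k M) = LinearMap.range a ∧
      (LinearMap.ker a).map (g : Module.End k M) = LinearMap.ker a := by
  have h := class_of_normalizer hg ha hga (SameClass.refl ha)
  exact ⟨by rw [← range_cj]; exact h.range, by rw [← ker_cj']; exact h.ker⟩

theorem isLow_conj (hr : (LinearMap.range a).map (g : Module.End k M) = LinearMap.range a)
    (hk : (LinearMap.ker a).map (g : Module.End k M) = LinearMap.ker a) (hu : IsLow a u) :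
    IsLow a (g * u * g⁻¹) := by
  have happ : ∀ v, (g : Module.End k M) (((g⁻¹ : LinearMap.GeneralLinearGroup k M) : Module.End k M) v) = v :=
    fun v => by rw [← Module.End.mul_apply, Units.mul_inv]; rfl
  have hinv : ∀ {W : Submodule k M}, W.map (g : Module.End k M) = W → ∀ v ∈ W,
      ((g⁻¹ : LinearMap.GeneralLinearGroup k M) : Module.End k M) v ∈ W := by
    intro W hW v hv
    rw [← hW] at hv
    obtain ⟨w, hw, rfl⟩ := hv
    rwa [← Module.End.mul_apply, Units.inv_mul]
  refine ⟨fun v hv => ?_, fun v hv => ?_, fun v => ?_⟩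
  · rw [Units.val_mul, Units.val_mul, Module.End.mul_apply, Module.End.mul_apply, hu.bot _ (hinv hr v hv), happ]
  · have h := hr.le (Submodule.mem_map_of_mem (hu.mid _ (hinv hk v hv)))
    rw [map_sub, happ] at h
    rwa [Units.val_mul, Units.val_mul, Module.End.mul_apply, Module.End.mul_apply]
  · have h := hk.le (Submodule.mem_map_of_mem (hu.top (((g⁻¹ : LinearMap.GeneralLinearGroup k M) : Module.End k M) v)))
    rw [map_sub, happ] at h
    rwa [Units.val_mul, Units.val_mul, Module.End.mul_apply, Module.End.mul_apply]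

theorem class_of_low (ha : Dmin X a) (hu : u ∈ lowSub X a ha.inG.sq) : SameClass X a (cj u a) := by
  obtain ⟨huX, hl⟩ := (mem_lowSub ha.inG.sq).1 hu
  obtain ⟨hiX, hi⟩ := (mem_lowSub ha.inG.sq).1 (inv_mem hu)
  have hrk : LinearMap.range a ≤ LinearMap.ker a := LinearMap.range_le_ker_iff.2 ha.inG.sq
  have hker : ∀ {g : LinearMap.GeneralLinearGroup k M}, IsLow a g → ∀ v ∈ LinearMap.ker a,
      (g : Module.End k M) v ∈ LinearMap.ker a := fun hg v hv => by
    have := (LinearMap.ker a).add_mem (hrk (hg.mid v hv)) hv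
    rwa [sub_add_cancel] at this
  refine ⟨ha.conj huX, ?_, ?_⟩
  · rw [ker_cj']
    refine le_antisymm (Submodule.map_le_iff_le_comap.2 fun v hv => hker hl v hv) fun v hv =>
      ⟨_, hker hi v hv, ?_⟩
    rw [← Module.End.mul_apply, Units.mul_inv]; rfl
  · rw [range_cj]
    refine le_antisymm (Submodule.map_le_iff_le_comap.2 fun v hv => ?_) fun v hv => ⟨v, hv, hl.bot v hv⟩
    rw [Submodule.mem_comap, hl.bot v hv]; exact hv

theorem exists_fixed_opp (hp5 : 5 ≤ p) (hk2 : ringChar k ≠ 2) (hk3 : Nat.card k ≠ 3) (ha : Dmin X a)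
    (hb : Dmin X b) (ho : Opp a b) (hBX : B ≤ Subgroup.normalizer (X : Set (LinearMap.GeneralLinearGroup k M)))
    (hcop : (Nat.card B).Coprime (Nat.card X))
    (hBa : B ≤ Subgroup.normalizer ((cl X a : Subgroup (LinearMap.GeneralLinearGroup k M)) : Set _)) :
    ∃ b', Dmin X b' ∧ Opp a b' ∧
      B ≤ Subgroup.normalizer ((cl X b' : Subgroup (LinearMap.GeneralLinearGroup k M)) : Set _) := by
  set U := lowSub X a ha.inG.sq
  have hUX : U ≤ X := fun u hu => ((mem_lowSub ha.inG.sq).1 hu).1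
  have hBU : B ≤ Subgroup.normalizer (U : Set (LinearMap.GeneralLinearGroup k M)) := fun g hg =>
    Coprime.mem_normalizer_of_forall fun u hu => by
      obtain ⟨huX, hl⟩ := (mem_lowSub ha.inG.sq).1 hu
      obtain ⟨hr, hk⟩ := fix_flag (hBX hg) ha (hBa hg)
      exact (mem_lowSub ha.inG.sq).2
        ⟨(Subgroup.mem_normalizer_iff.1 (hBX hg) _).1 huX, isLow_conj hr hk hl⟩
  obtain ⟨u, hu, hn⟩ := Coprime.exists_invariant_conj hBU (hcop.coprime_dvd_right (Subgroup.card_dvd_of_le hUX))
    (Or.inr (Coprime.isSolvable_of_isPGroup (isPGroup_lowSub (p := p) (by omega) ha.inG.sq))) (P := cl X b)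
    fun g hg => by
      have h1 := class_of_normalizer (hBX hg) ha (hBa hg) (SameClass.refl ha)
      have h2 : Opp a (cj g b) := (opp_cj g ho).of_class hk2 hk3 (dmin_cj (hBX hg) ha) (dmin_cj (hBX hg) hb)
        (class_symm ha h1) (SameClass.refl (dmin_cj (hBX hg) hb))
      obtain ⟨w, hw, e⟩ := exists_low_conj hp5 hk2 hk3 ha hb ho (dmin_cj (hBX hg) hb) h2
      exact ⟨w, hw, by rw [conj_smul_eq, conj_smul_eq, e, cl_cj (hBX hg) hb]⟩
  have huN := Subgroup.le_normalizer (H := X) (hUX hu)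
  refine ⟨cj u b, hb.conj (hUX hu), (opp_cj u ho).of_class hk2 hk3 (dmin_cj huN ha) (dmin_cj huN hb)
    (class_symm ha (class_of_low ha hu)) (SameClass.refl (dmin_cj huN hb)), ?_⟩
  rwa [conj_smul_eq, cl_cj huN hb] at hn

theorem two_dvd_card (hk2 : ringChar k ≠ 2) (hk3 : Nat.card k ≠ 3) (ha : Dmin X a) (hb : Dmin X b)
    (ho : Opp a b) : 2 ∣ Nat.card X := by
  obtain ⟨i, hi, hi1, hi2, -⟩ := exists_involution hk2 hk3 ha hb ho
  have hiX : i ∈ X := sup_le (sameActionSubgroup_le ha) (sameActionSubgroup_le hb) hi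
  have h : orderOf (⟨i, hiX⟩ : X) = 2 := orderOf_eq_prime (Subtype.ext (by rw [Subgroup.coe_pow, pow_two]; exact hi2))
    fun e => hi1 (congrArg Subtype.val e)
  rw [← h]; exact orderOf_dvd_natCard _

theorem exists_fixed_in_class (hk2 : ringChar k ≠ 2) (hk3 : Nat.card k ≠ 3) (ha : Dmin X a) (hb : Dmin X b)
    (ho : Opp a b) (hBX : B ≤ Subgroup.normalizer (X : Set (LinearMap.GeneralLinearGroup k M)))
    (hcop : (Nat.card B).Coprime (Nat.card X))
    (hBa : B ≤ Subgroup.normalizer ((cl X a : Subgroup (LinearMap.GeneralLinearGroup k M)) : Set _))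
    (hBb : B ≤ Subgroup.normalizer ((cl X b : Subgroup (LinearMap.GeneralLinearGroup k M)) : Set _)) :
    ∃ a', SameClass X a a' ∧ ∀ g ∈ B, cj g a' = a' := by
  classical
  haveI : Finite (Module.End k M) := Finite.of_injective (fun f : Module.End k M => (f : M → M)) DFunLike.coe_injective
  have hodd : Odd (Nat.card B) := by
    have := hcop.coprime_dvd_right (two_dvd_card hk2 hk3 ha hb ho)
    exact Nat.coprime_two_right.1 this
  set N := torusSub X a b
  have hNX : N ≤ X := inf_le_left.trans inf_le_left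
  have hBN : B ≤ Subgroup.normalizer (N : Set (LinearMap.GeneralLinearGroup k M)) := fun g hg =>
    Coprime.mem_normalizer_of_forall fun w hw =>
      ⟨⟨(Subgroup.mem_normalizer_iff.1 (hBX hg) _).1 hw.1.1,
        Subgroup.mul_mem _ (Subgroup.mul_mem _ (hBa hg) hw.1.2) (Subgroup.inv_mem _ (hBa hg))⟩,
        Subgroup.mul_mem _ (Subgroup.mul_mem _ (hBb hg) hw.2) (Subgroup.inv_mem _ (hBb hg))⟩
  let r : Setoid {w // SameClass X a w} :=
    { r := fun v w => ∃ g ∈ N, cj g v.1 = w.1
      iseqv := ⟨fun v => ⟨1, one_mem _, by simp [cj]⟩, fun ⟨g, hg, e⟩ => ⟨g⁻¹, inv_mem hg, by rw [← e, cj_inv_cj]⟩,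
        fun ⟨g, hg, e⟩ ⟨g', hg', e'⟩ => ⟨g' * g, mul_mem hg' hg, by rw [← cj_cj, e, e']⟩⟩ }
  have hbig : ∀ v : {w // SameClass X a w}, Nat.card {w // SameClass X a w} ≤ 2 * Nat.card {w // r v w} := by
    intro v
    refine (orbit_half hk2 hk3 ha hb ho v.2).trans (Nat.mul_le_mul_left _ (le_of_eq (Nat.card_congr ?_)))
    exact ⟨fun w => ⟨⟨w.1, w.2.1⟩, w.2.2⟩, fun w => ⟨w.1.1, w.1.2, w.2⟩, fun _ => rfl, fun _ => rfl⟩
  haveI : Nonempty {w // SameClass X a w} := ⟨⟨a, SameClass.refl ha⟩⟩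
  have hfix : ∀ g ∈ B, ∃ n ∈ N, cj n a = cj g a := by
    intro g hg
    let f : {w // SameClass X a w} → {w // SameClass X a w} := fun w =>
      ⟨cj g w.1, class_of_normalizer (hBX hg) ha (hBa hg) w.2⟩
    have hf : Function.Injective f := fun v w e => Subtype.ext (by
      rw [← cj_inv_cj g v.1, ← cj_inv_cj g w.1]; exact congrArg (fun t => cj g⁻¹ t.1) e)
    let σ : Equiv.Perm {w // SameClass X a w} := Equiv.ofBijective f (Finite.injective_iff_bijective.1 hf)
    have hpow : ∀ (n : ℕ) (w), ((σ ^ n) w).1 = cj (g ^ n) w.1 := by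
      intro n
      induction n with
      | zero => intro w; simp [cj]
      | succ n ih =>
        intro w
        rw [pow_succ', Equiv.Perm.mul_apply, pow_succ']
        show cj g ((σ ^ n) w).1 = _
        rw [ih, cj_cj]
    have hσ : σ ^ Nat.card B = 1 := Equiv.ext fun w => Subtype.ext (by
      rw [hpow, show g ^ Nat.card B = 1 from congrArg Subtype.val (pow_card_eq_one' (x := (⟨g, hg⟩ : B)))]
      simp [cj])
    refine fixes_classes r hbig (σ := σ) ?_ (hodd.of_dvd_nat (orderOf_dvd_of_pow_eq_one hσ)) ⟨a, SameClass.refl ha⟩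
    rintro v w ⟨n, hn, e⟩
    refine ⟨g * n * g⁻¹, (Subgroup.mem_normalizer_iff.1 (hBN hg) _).1 hn, ?_⟩
    show cj (g * n * g⁻¹) (cj g v.1) = cj g w.1
    rw [cj_cj, inv_mul_cancel_right, ← cj_cj, e]
  let H : Subgroup (LinearMap.GeneralLinearGroup k M) :=
    { carrier := {g | cj g a = a}
      one_mem' := by simp [cj]
      mul_mem' := fun {g g'} (h : cj g a = a) (h' : cj g' a = a) => by
        show cj (g * g') a = a
        rw [← cj_cj, h', h]
      inv_mem' := fun {g} (h : cj g a = a) => by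
        show cj g⁻¹ a = a
        conv_lhs => rw [← h]
        exact cj_inv_cj g a }
  obtain ⟨n, hn, hnB⟩ := Coprime.exists_conj_le_of_forall hBN (hcop.coprime_dvd_right (Subgroup.card_dvd_of_le hNX))
    (Or.inl (OddOrderTheorem.solvable hodd)) H fun g hg => by
      obtain ⟨w, hw, e⟩ := hfix g hg
      exact ⟨w⁻¹, inv_mem hw, show cj (w⁻¹ * g) a = a by rw [← cj_cj, ← e, cj_inv_cj]⟩
  have hnN := Subgroup.le_normalizer (H := X) (hNX (inv_mem hn))
  refine ⟨cj n⁻¹ a, class_of_normalizer hnN ha (inv_mem hn.1.2) (SameClass.refl ha), fun g hg => ?_⟩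
  have h : cj (n * g * n⁻¹) a = a := hnB (Coprime.conj_mem_conj.2 hg)
  rw [← cj_cj, ← cj_cj] at h
  conv_rhs => rw [← h]
  rw [cj_inv_cj]

theorem exists_fixed_sl2 (hp5 : 5 ≤ p) (hk2 : ringChar k ≠ 2) (hk3 : Nat.card k ≠ 3) (ha : Dmin X a)
    (hb : Dmin X b) (ho : Opp a b) (hBX : B ≤ Subgroup.normalizer (X : Set (LinearMap.GeneralLinearGroup k M)))
    (hcop : (Nat.card B).Coprime (Nat.card X))
    (hBa : B ≤ Subgroup.normalizer ((cl X a : Subgroup (LinearMap.GeneralLinearGroup k M)) : Set _)) :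
    ∃ (b' : Module.End k M) (f : SL(2, ZMod p) →* LinearMap.GeneralLinearGroup k M),
      Dmin X b' ∧ Opp a b' ∧ Function.Injective f ∧ f.range ≤ cl X a ⊔ cl X b' ∧
      f.range ≤ X ⊓ Subgroup.centralizer (B : Set (LinearMap.GeneralLinearGroup k M)) := by
  obtain ⟨b', hb', ho', hBb⟩ := exists_fixed_opp hp5 hk2 hk3 ha hb ho hBX hcop hBa
  obtain ⟨a₀, hca, hfa⟩ := exists_fixed_in_class hk2 hk3 ha hb' ho' hBX hcop hBa hBb
  obtain ⟨b₀, hcb, hfb⟩ := exists_fixed_in_class hk2 hk3 hb' ha ho'.symm hBX hcop hBb hBa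
  obtain ⟨L, _, _, ⟨c⟩⟩ := exists_model hk2 hk3 hca.dmin hcb.dmin (ho'.of_class hk2 hk3 ha hb' hca hcb)
  set ι : ZMod p →+* L := (algebraMap k L).comp (ZMod.castHom dvd_rfl k)
  refine ⟨b', c.rho.comp (Matrix.SpecialLinearGroup.map ι), hb', ho', ?_, ?_, ?_⟩
  · exact c.rho_injective.comp fun g g' e => Subtype.ext (Matrix.map_injective ι.injective (congrArg Subtype.val e))
  · rintro _ ⟨g, rfl⟩
    have h := c.rho_mem_sup hca.dmin hcb.dmin (Matrix.SpecialLinearGroup.map ι g)
    rwa [sameActionSubgroup_congr ha hca, sameActionSubgroup_congr hb' hcb] at h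
  · rintro _ ⟨g, rfl⟩
    refine ⟨c.mem _, ?_⟩
    have hfixed : ∀ {s : Module.End k M}, s * s = 0 → (∀ g ∈ B, cj g s = s) → ∀ w ∈ scalarFamily (ex s),
        w ∈ Subgroup.centralizer (B : Set (LinearMap.GeneralLinearGroup k M)) := by
      intro s hs hfs w hw
      rw [scalarFamily_ex hs] at hw
      obtain ⟨t, rfl⟩ := hw
      refine Subgroup.mem_centralizer_iff.2 fun h hh => ?_
      have := conj_ex h (smul_sq hs t t)
      rw [cj_smul, hfs h hh] at this
      exact mul_inv_eq_iff_eq_mul.1 this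
    have hle : c.rho.range ≤ Subgroup.centralizer (B : Set (LinearMap.GeneralLinearGroup k M)) := by
      rw [c.range_rho]
      refine (Subgroup.closure_le _).2 ?_
      rintro w (hw | hw)
      · exact hfixed c.sq_a hfa w hw
      · exact hfixed c.sq_b hfb w hw
    exact hle ⟨_, rfl⟩

end Cfsg.Agent.CoprimeZJ
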