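import Mathlib
import Cfsg.Agent.EqLemmas

/-!
Finite additive sets of units closed under `(a, b) ↦ a b a` (odd characteristic).
* `sq_eq_sq` : two members with the same square agree up to sign
* `orbit_le_two` : a relation with classes of at least half the size has at most two classes
-/

set_option autoImplicit false
set_option linter.style.haveILetI false

namespace Cfsg.Agent.CoprimeZJ

open Polynomial

variable {R : Type*} [Ring R]

/-- A finite additive subgroup containing `1`, closed under `a b a`, whose non-zero members are units. -/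
structure Sandwich (F : AddSubgroup R) : Prop where
  fin : (F : Set R).Finite
  one_mem : (1 : R) ∈ F
  two : ∀ x : R, x + x = 0 → x = 0
  triple : ∀ a ∈ F, ∀ b ∈ F, a * b * a ∈ F
  unit : ∀ a ∈ F, a ≠ 0 → IsUnit a

variable {F : AddSubgroup R}

/-- The members of `F` commuting with `z`, `w` which multiply both into `F`. -/
def goodSet (F : AddSubgroup R) (z w : R) : Set R :=
  {u | u ∈ F ∧ Commute u z ∧ Commute u w ∧ u * z ∈ F ∧ u * w ∈ F}

theorem goodSet_mul (hF : Sandwich F) {z w : R} (hz : z ∈ F) (hw : w ∈ F) (ha : z * w = -(w * z)) {u : R}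
    (hu : u ∈ goodSet F z w) : u * (z * z) ∈ goodSet F z w ∧ u * (w * w) ∈ goodSet F z w := by
  obtain ⟨h1, h2, h3, h4, h5⟩ := hu
  have ha' : w * z = -(z * w) := by rw [ha, neg_neg]
  have hzw : Commute (z * z) w := by
    show z * z * w = w * (z * z)
    rw [mul_assoc, ha, mul_neg, ← mul_assoc, ha, neg_mul, neg_neg, mul_assoc]
  have hwz : Commute (w * w) z := by
    show w * w * z = z * (w * w)
    rw [mul_assoc, ha', mul_neg, ← mul_assoc, ha', neg_mul, neg_neg, mul_assoc]
  refine ⟨⟨?_, h2.mul_left ((Commute.refl z).mul_left (Commute.refl z)), h3.mul_left hzw, ?_, ?_⟩,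
    ⟨?_, h2.mul_left hwz, h3.mul_left ((Commute.refl w).mul_left (Commute.refl w)), ?_, ?_⟩⟩
  · have := hF.triple z hz u h1
    rwa [← h2.eq, mul_assoc] at this
  · have := hF.triple z hz _ h4
    rw [← mul_assoc, ← h2.eq] at this; rwa [← mul_assoc u z z]
  · have := hF.triple z hz _ h5
    have e : z * (u * w) * z = -(u * (z * z) * w) := by
      rw [← mul_assoc z, ← h2.eq, mul_assoc (u * z), ha', mul_neg, mul_assoc u (z * z), mul_assoc u z,
        mul_assoc z z]
    rw [e, F.neg_mem_iff] at this
    exact this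
  · have := hF.triple w hw u h1
    rwa [← h3.eq, mul_assoc] at this
  · have := hF.triple w hw _ h4
    have e : w * (u * z) * w = -(u * (w * w) * z) := by
      rw [← mul_assoc w, ← h3.eq, mul_assoc (u * w), ha, mul_neg, mul_assoc u (w * w), mul_assoc u w,
        mul_assoc w w]
    rw [e, F.neg_mem_iff] at this
    exact this
  · have := hF.triple w hw _ h5
    rw [← mul_assoc, ← h3.eq] at this; rwa [← mul_assoc u w w]

/-- Two non-zero members do not anticommute. -/
theorem not_anticommute (hF : Sandwich F) [Nontrivial R] {z w : R} (hz : z ∈ F) (hw : w ∈ F) (hz0 : z ≠ 0)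
    (hw0 : w ≠ 0) : z * w ≠ -(w * z) := by
  classical
  intro ha
  set Z : Subring R := Subring.closure {z * z, w * w}
  have hgood : ∀ u ∈ Z, u ∈ goodSet F z w := by
    intro u hu
    rw [Subring.mem_closure_iff] at hu
    induction hu using AddSubgroup.closure_induction with
    | mem m hm =>
      induction hm using Submonoid.closure_induction_right with
      | one => exact ⟨hF.one_mem, Commute.one_left _, Commute.one_left _, by rwa [one_mul], by rwa [one_mul]⟩
      | mul_right m _ y hy ih =>
        rcases hy with rfl | rfl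
        · exact (goodSet_mul hF hz hw ha ih).1
        · exact (goodSet_mul hF hz hw ha ih).2
    | zero => exact ⟨F.zero_mem, Commute.zero_left _, Commute.zero_left _, by simp, by simp⟩
    | add x y _ _ hx hy =>
      exact ⟨F.add_mem hx.1 hy.1, hx.2.1.add_left hy.2.1, hx.2.2.1.add_left hy.2.2.1,
        by rw [add_mul]; exact F.add_mem hx.2.2.2.1 hy.2.2.2.1,
        by rw [add_mul]; exact F.add_mem hx.2.2.2.2 hy.2.2.2.2⟩
    | neg x _ hx =>
      exact ⟨F.neg_mem hx.1, hx.2.1.neg_left, hx.2.2.1.neg_left,
        by rw [neg_mul]; exact F.neg_mem hx.2.2.2.1, by rw [neg_mul]; exact F.neg_mem hx.2.2.2.2⟩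
  haveI : Finite Z := Set.Finite.to_subtype (hF.fin.subset fun u hu => (hgood u hu).1)
  have hcomm : ∀ u ∈ Z, ∀ v ∈ Z, u * v = v * u := by
    intro u hu v hv
    have h1 : v ∈ Subring.centralizer ({u} : Set R) := by
      refine Subring.closure_le.2 ?_ hv
      obtain ⟨-, hcz, hcw, -, -⟩ := hgood u hu
      rintro x (rfl | rfl) <;>
        · refine Subring.mem_centralizer_iff.2 fun g hg => ?_
          rw [Set.mem_singleton_iff.1 hg]
          first
            | exact (hcz.mul_right hcz).eq
            | exact (hcw.mul_right hcw).eq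
    exact Subring.mem_centralizer_iff.1 h1 u rfl
  letI : CommRing Z := { (inferInstance : Ring Z) with mul_comm := fun u v => Subtype.ext (hcomm _ u.2 _ v.2) }
  haveI : NoZeroDivisors Z := ⟨fun {u v} huv => by
    by_contra h
    push Not at h
    have e : (u : R) * (v : R) = 0 := congrArg Subtype.val huv
    have hu := hF.unit _ (hgood _ u.2).1 fun e' => h.1 (Subtype.ext e')
    exact h.2 (Subtype.ext (hu.mul_right_eq_zero.1 e))⟩
  haveI : IsDomain Z := NoZeroDivisors.to_isDomain _
  haveI : Fintype Z := Fintype.ofFinite Z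
  letI : Field Z := (Finite.isField_of_domain Z).toField
  have h2 : (2 : Z) ≠ 0 := fun e => one_ne_zero (α := R) (hF.two 1 (by
    have := congrArg Subtype.val e
    rw [show (2 : Z) = 1 + 1 from one_add_one_eq_two.symm] at this
    exact this))
  have hodd : Fintype.card Z % 2 = 1 := FiniteField.odd_card_of_char_ne_two fun e => h2 (by
    haveI := ringChar.charP Z
    have h3 : ((ringChar Z : ℕ) : Z) = 0 := CharP.cast_eq_zero Z _
    rwa [e, Nat.cast_two] at h3)
  set Z2 : Z := ⟨z * z, Subring.subset_closure (Set.mem_insert _ _)⟩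
  set W2 : Z := ⟨w * w, Subring.subset_closure (Set.mem_insert_of_mem _ rfl)⟩
  have hsq0 : ∀ {y : R}, y ∈ F → y ≠ 0 → y * y ≠ 0 := fun hy hy0 e => hy0 ((hF.unit _ hy hy0).mul_right_eq_zero.1 e)
  have hZ2 : Z2 ≠ 0 := fun e => hsq0 hz hz0 (congrArg Subtype.val e)
  have hW2 : W2 ≠ 0 := fun e => hsq0 hw hw0 (congrArg Subtype.val e)
  obtain ⟨α, β, hαβ⟩ := FiniteField.exists_root_sum_quadratic (f := Polynomial.C Z2 * X ^ 2)
    (g := Polynomial.C W2 * X ^ 2 - 1) (degree_C_mul_X_pow 2 hZ2) (by
      rw [degree_sub_eq_left_of_degree_lt, degree_C_mul_X_pow 2 hW2]; · norm_num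
      rw [degree_C_mul_X_pow 2 hW2, degree_one]; norm_num) hodd
  simp only [eval_mul, eval_C, eval_pow, eval_X, eval_sub, eval_one] at hαβ
  obtain ⟨-, haz, haw, hazF, -⟩ := hgood _ α.2
  obtain ⟨-, hbz, hbw, -, hbwF⟩ := hgood _ β.2
  set t : R := α * z + β * w
  have htF : t ∈ F := F.add_mem hazF hbwF
  have hcab : (α : R) * β = β * α := hcomm _ α.2 _ β.2
  have e1 : (α : R) * z * (α * z) = α * α * (z * z) := by
    rw [mul_assoc, ← mul_assoc z, ← haz.eq]; simp only [mul_assoc]
  have e2 : (β : R) * w * (β * w) = β * β * (w * w) := by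
    rw [mul_assoc, ← mul_assoc w, ← hbw.eq]; simp only [mul_assoc]
  have e3 : (α : R) * z * (β * w) + β * w * (α * z) = 0 := by
    rw [mul_assoc (α : R), ← mul_assoc z, ← hbz.eq, mul_assoc (β : R) z, ← mul_assoc (α : R), ha,
      mul_assoc (β : R) w, ← mul_assoc w, ← haw.eq, mul_assoc (α : R) w, ← mul_assoc (β : R), ← hcab, mul_neg,
      neg_add_cancel]
  have e4 : (α : R) * α * (z * z) + β * β * (w * w) = 1 := by
    have := congrArg Subtype.val (sub_eq_zero.1 (by linear_combination hαβ :
      (α * α * Z2 + β * β * W2 : Z) - 1 = 0))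
    simpa [Z2, W2] using this
  have htt : t * t = 1 := by
    rw [← e4, add_mul, mul_add, mul_add, e1, e2]
    rw [show ∀ a b c d : R, a + b + (c + d) = a + d + (b + c) from fun a b c d => by abel, e3, add_zero]
  have ht : t = 1 ∨ t = -1 := by
    have e : (t - 1) * (t + 1) = 0 := by rw [sub_mul, one_mul, mul_add, mul_one, htt]; abel
    rcases eq_or_ne (t - 1) 0 with h | h
    · exact Or.inl (sub_eq_zero.1 h)
    · exact Or.inr (eq_neg_of_add_eq_zero_left
        ((hF.unit _ (F.sub_mem htF hF.one_mem) h).mul_right_eq_zero.1 e))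
  have e5 : z * t + t * z = (α : R) * (z * z) + α * (z * z) := by
    show z * (α * z + β * w) + (α * z + β * w) * z = _
    rw [mul_add, add_mul, ← mul_assoc z, ← haz.eq, mul_assoc (α : R), ← mul_assoc z (β : R), ← hbz.eq,
      mul_assoc (β : R) z, mul_assoc (β : R) w, ha, mul_neg]
    abel
  have hzZ : Commute z w := by
    obtain ⟨-, -, hsw, -, -⟩ := hgood _ (Z.mul_mem α.2 (Subring.subset_closure (Set.mem_insert (z * z) _)))
    rcases ht with h | h
    · rw [h, mul_one, one_mul] at e5
      have hz' : z = (α : R) * (z * z) := sub_eq_zero.1 (hF.two _ (by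
        rw [show ∀ a b : R, a - b + (a - b) = a + a - (b + b) from fun a b => by abel, e5, sub_self]))
      rw [hz']; exact hsw
    · rw [h, mul_neg, neg_mul, mul_one, one_mul] at e5
      have hz' : z = -((α : R) * (z * z)) := eq_neg_of_add_eq_zero_left (hF.two _ (by
        rw [show ∀ a b : R, a + b + (a + b) = b + b - (-a + -a) from fun a b => by abel, e5, sub_self]))
      rw [hz']; exact hsw.neg_left
  rw [hzZ.eq] at ha
  have : w * z = 0 := hF.two _ (by nth_rewrite 2 [ha]; rw [add_neg_cancel])
  exact hz0 ((hF.unit _ hw hw0).mul_right_eq_zero.1 this)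

/-- Members with equal squares agree up to sign. -/
theorem sq_eq_sq (hF : Sandwich F) [Nontrivial R] {x y : R} (hx : x ∈ F) (hy : y ∈ F)
    (h : x * x = y * y) : y = x ∨ y = -x := by
  by_contra hne
  push Not at hne
  refine not_anticommute hF (F.sub_mem hx hy) (F.add_mem hx hy)
    (fun e => hne.1 (sub_eq_zero.1 e).symm) (fun e => hne.2 (eq_neg_of_add_eq_zero_right e)) ?_
  simp only [sub_mul, mul_add, add_mul, mul_sub, h]
  abel

/-- A permutation of odd order respecting an equivalence with classes of at least half the size fixes each class. -/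
theorem fixes_classes {α : Type*} [Finite α] [Nonempty α] (r : Setoid α)
    (hbig : ∀ x : α, Nat.card α ≤ 2 * Nat.card {y // r x y}) {σ : Equiv.Perm α}
    (hσ : ∀ x y, r x y → r (σ x) (σ y)) (hodd : Odd (orderOf σ)) (x : α) : r x (σ x) := by
  classical
  have : Fintype α := Fintype.ofFinite α
  set O : α → Finset α := fun x => Finset.univ.filter fun y => r x y
  have hO : ∀ x, Fintype.card α ≤ 2 * (O x).card := fun x => by
    have := hbig x
    rwa [Nat.card_eq_fintype_card, Nat.card_eq_fintype_card, Fintype.card_subtype] at this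
  have key : ∀ a b c : α, r a b ∨ r a c ∨ r b c := by
    intro a b c
    by_contra h
    push Not at h
    have d : ∀ {u v : α}, ¬ r u v → Disjoint (O u) (O v) := fun {u v} huv =>
      Finset.disjoint_filter.2 fun w _ h1 h2 => huv (r.trans h1 (r.symm h2))
    have h1 : ((O a ∪ O b) ∪ O c).card ≤ Fintype.card α := Finset.card_le_univ _
    rw [Finset.card_union_of_disjoint (Finset.disjoint_union_left.2 ⟨d h.2.1, d h.2.2⟩),
      Finset.card_union_of_disjoint (d h.1)] at h1
    have := hO a
    have := hO b
    have := hO c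
    have := Fintype.card_pos (α := α)
    omega
  by_contra hx
  obtain ⟨m, hm⟩ := hodd
  have h2 : ∀ y, ¬ r y (σ y) → r y (σ (σ y)) := by
    intro y hy
    rcases key y (σ y) (σ (σ y)) with h | h | h
    · exact absurd h hy
    · exact h
    · exfalso
      have hiter : ∀ (n : ℕ) (u v : α), r u v → r ((σ ^ n) u) ((σ ^ n) v) := by
        intro n
        induction n with
        | zero => exact fun u v h => h
        | succ n ih => intro u v h; rw [pow_succ', Equiv.Perm.mul_apply, Equiv.Perm.mul_apply]; exact hσ _ _ (ih u v h)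
      have := hiter (orderOf σ - 1) _ _ h
      rw [← Equiv.Perm.mul_apply, ← Equiv.Perm.mul_apply, ← pow_succ,
        show orderOf σ - 1 + 1 = orderOf σ by omega, pow_orderOf_eq_one] at this
      exact hy this
  have h3 : ∀ n : ℕ, r x ((σ ^ (2 * n)) x) := by
    intro n
    induction n with
    | zero => exact r.refl _
    | succ n ih =>
      rw [show 2 * (n + 1) = 2 + 2 * n by ring, pow_add, Equiv.Perm.mul_apply, pow_two, Equiv.Perm.mul_apply]
      exact r.trans (h2 x hx) (hσ _ _ (hσ _ _ ih))
  have h4 := h3 (m + 1)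
  rw [show 2 * (m + 1) = orderOf σ + 1 by omega, pow_add, pow_orderOf_eq_one, one_mul, pow_one] at h4
  exact hx h4

end Cfsg.Agent.CoprimeZJ
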