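import Cfsg.Agent.Lib.CoprimeZJ.ZJ

/-!
* `factorization_inv` : the factorization for an invariant Sylow subgroup
-/

set_option linter.style.haveILetI false

namespace Cfsg.Agent.CoprimeZJ

open scoped MatrixGroups

variable {G : Type*} [Group G] [Finite G] {A : Type*} [Group A] [Finite A] [MulDistribMulAction A G]
  {p : ℕ} [hp : Fact p.Prime]

/-- The factorization for an invariant Sylow subgroup. -/
theorem factorization_inv (hp5 : 5 ≤ p) (hG : Cfsg.IsPConstrained p G) (hcop : (Nat.card A).Coprime (Nat.card G))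
    {Fld : Type*} [Field Fld] (e : ZMod p ≃+* Fld)
    (hfix : ¬ Cfsg.Involves (Matrix.ProjectiveSpecialLinearGroup (Fin 2) Fld) (fixSub A G))
    (P : Sylow p G) (hP : Inv A (P : Subgroup G)) :
    Cfsg.pPrimeCore p G ⊔ Subgroup.normalizer (Cfsg.centerThompsonAOf (P : Subgroup G) : Set G) = ⊤ := by
  set O := Cfsg.pPrimeCore p G
  set f := QuotientGroup.mk' O
  have hf : Function.Surjective f := QuotientGroup.mk'_surjective O
  have hO : Inv A O := inv_pPrimeCore p
  let act : A → (G ⧸ O →* G ⧸ O) := fun a => QuotientGroup.map O O (MulDistribMulAction.toMonoidHom G a) fun x hx => hO a x hx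
  letI : MulDistribMulAction A (G ⧸ O) :=
    { smul := fun a q => act a q
      one_smul := fun q => QuotientGroup.induction_on q fun x => congrArg f (one_smul A x)
      mul_smul := fun a b q => QuotientGroup.induction_on q fun x => congrArg f (mul_smul a b x)
      smul_mul := fun a q r => map_mul (act a) q r
      smul_one := fun a => map_one (act a) }
  have hsm : ∀ (a : A) (x : G), a • f x = f (a • x) := fun a x => rfl
  have hcop' : (Nat.card A).Coprime (Nat.card (G ⧸ O)) :=
    hcop.coprime_dvd_right (Subgroup.card_quotient_dvd_card O)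
  have hsolv : Group.IsSolvable A ∨ Group.IsSolvable G := by
    rcases Nat.even_or_odd (Nat.card G) with he | ho
    · exact Or.inl (OddOrderTheorem.solvable (Nat.coprime_two_right.1 (hcop.coprime_dvd_right he.two_dvd)))
    · exact Or.inr (OddOrderTheorem.solvable ho)
  have hfix' : ¬ Cfsg.Involves (Matrix.ProjectiveSpecialLinearGroup (Fin 2) Fld) (fixSub A (G ⧸ O)) := fun h => by
    let F : fixSub A G →* fixSub A (G ⧸ O) :=
      (f.comp (fixSub A G).subtype).codRestrict _ fun c a => by
        show a • f (c : G) = f c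
        rw [hsm, c.2 a]
    refine hfix (Involves.involves_of_surjective F ?_ h)
    rintro ⟨q, hq⟩
    obtain ⟨x, rfl⟩ := hf q
    obtain ⟨c, hc, hcx⟩ := Coprime.exists_smul_fixed_of_coset hcop hsolv (N := O) hO (g := x) fun a => by
      rw [← QuotientGroup.eq_one_iff]
      show f (a • x * x⁻¹) = 1
      rw [map_mul, map_inv, ← hsm, hq a, mul_inv_cancel]
    refine ⟨⟨c, hc⟩, Subtype.ext ?_⟩
    show f c = f x
    rw [← mul_inv_eq_one, ← map_inv, ← map_mul]
    exact (QuotientGroup.eq_one_iff _).2 hcx
  have hker : (Nat.card f.ker).Coprime p := by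
    rw [QuotientGroup.ker_mk']; exact Cores.coprime_card_pPrimeCore p
  set Z := Cfsg.centerThompsonAOf (P : Subgroup G)
  have hPi : Inv A ((P.mapSurjective hf : Sylow p (G ⧸ O)) : Subgroup (G ⧸ O)) := by
    rw [Sylow.coe_mapSurjective]
    rintro a _ ⟨x, hx, rfl⟩
    exact ⟨a • x, hP a x hx, (hsm a x).symm⟩
  have hn := zj_normal_inv (A := A) (by omega : p ≠ 2) PLocal.goodClass_abelian
    (Constrained.isPConstrained_iff.1 hG) (P.mapSurjective hf) (inv_sInf_maxIn hPi)
    fun Q _ hQ hQi => stableOn hp5 hcop' e hfix' Q hQ hQi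
  rw [PLocal.sInf_maxIn_abelian, ← PLocal.thompsonSubgroupAOf_eq, Sylow.coe_mapSurjective] at hn
  change (Cfsg.centerThompsonAOf ((P : Subgroup G).map f)).Normal at hn
  rw [← PLocal.map_centerThompsonAOf f (PLocal.injOn_of_pGroup f hker P.2)] at hn
  have htop : (Subgroup.normalizer (Z : Set G)).map f = ⊤ := by
    rw [← PLocal.normalizer_map_eq f hf hker (P.2.to_le (show Z ≤ (P : Subgroup G) from
      inf_le_left.trans (PLocal.thompsonSubgroupAOf_le _))), Subgroup.normalizer_eq_top_iff.2 hn]
  rw [← Subgroup.comap_top f, ← htop, Subgroup.comap_map_eq, QuotientGroup.ker_mk', sup_comm]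

end Cfsg.Agent.CoprimeZJ
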