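import Cfsg.Agent.Lib.QuadRoot.Classes

/-!
Conjugation of minimal elements by automorphisms normalising the group, and the flag of a minimal element.
* `inG_cj`, `dmin_cj`, `opp_cj`, `class_cj`, `cl` : `E⟨cj g a⟩ = conjBy E⟨a⟩ g`
* `IsLow a g`, `lowSub` : the automorphisms lowering `0 ≤ range a ≤ ker a ≤ M`; a group of exponent `p`
-/

set_option autoImplicit false
set_option linter.unusedSectionVars false

namespace Cfsg.Agent.CoprimeZJ

open Cfsg Module Cfsg.Agent.QuadRoot

universe u v

variable {k : Type u} [Field k] {M : Type v} [AddCommGroup M] [Module k M]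
  {X : Subgroup (LinearMap.GeneralLinearGroup k M)} {g : LinearMap.GeneralLinearGroup k M}
  {a b : Module.End k M}

theorem inG_cj (hg : g ∈ Subgroup.normalizer (X : Set (LinearMap.GeneralLinearGroup k M))) (ha : InG X a) :
    InG X (cj g a) := by
  refine ⟨by rw [← cj_mul, ha.sq, cj_zero], fun c => ?_⟩
  rw [← cj_smul, ← conj_ex g (smul_sq ha.sq c c)]
  exact (Subgroup.mem_normalizer_iff.1 hg _).1 (ha.mem c)

theorem dmin_cj (hg : g ∈ Subgroup.normalizer (X : Set (LinearMap.GeneralLinearGroup k M))) (ha : Dmin X a) :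
    Dmin X (cj g a) :=
  ⟨inG_cj hg ha.inG, fun e => ha.ne ((cj_eq_zero g a).1 e), fun b hb hb0 => by
    rw [finrank_range_cj]; exact ha.min b hb hb0⟩

theorem opp_cj (g : LinearMap.GeneralLinearGroup k M) (h : Opp a b) : Opp (cj g a) (cj g b) := fun h' => by
  obtain ⟨n, hn⟩ := h'
  refine h ⟨n, ?_⟩
  rwa [← cj_mul, ← cj_pow, cj_eq_zero] at hn

theorem class_cj (hg : g ∈ Subgroup.normalizer (X : Set (LinearMap.GeneralLinearGroup k M)))
    (hb : SameClass X a b) : SameClass X (cj g a) (cj g b) :=
  ⟨dmin_cj hg hb.dmin, by rw [ker_cj, ker_cj, hb.ker], by rw [range_cj, range_cj, hb.range]⟩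

/-- The subgroup of the class of `a`. -/
noncomputable abbrev cl (X : Subgroup (LinearMap.GeneralLinearGroup k M)) (a : Module.End k M) :
    Subgroup (LinearMap.GeneralLinearGroup k M) :=
  sameActionSubgroup X (ex a)

theorem class_of_cl [FiniteDimensional k M] (ha : Dmin X a) (hb : Dmin X b) (h : cl X b = cl X a) :
    SameClass X a b := by
  have h1 : ex b ∈ cl X b := ex_mem_sameActionSubgroup hb (SameClass.refl hb)
  rw [h] at h1
  obtain ⟨c, hc, e⟩ := (mem_sameActionSubgroup ha).1 h1
  rcases hc with rfl | hc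
  · exact absurd (ex_inj hb.inG.sq (by simp) e) hb.ne
  · rwa [ex_inj hb.inG.sq hc.dmin.inG.sq e]

theorem cl_cj [FiniteDimensional k M] (hg : g ∈ Subgroup.normalizer (X : Set (LinearMap.GeneralLinearGroup k M)))
    (ha : Dmin X a) : conjBy (cl X a) g = cl X (cj g a) := by
  ext τ
  rw [RankOne.mem_conjBy, mem_sameActionSubgroup ha, mem_sameActionSubgroup (dmin_cj hg ha)]
  constructor
  · rintro ⟨b, hb, e⟩
    have hbb : b * b = 0 := by rcases hb with rfl | hb; · simp
                               exact hb.dmin.inG.sq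
    refine ⟨cj g b, hb.imp (fun h => by rw [h, cj_zero]) (class_cj hg), ?_⟩
    rw [← conj_ex g hbb, ← e]; group
  · rintro ⟨b, hb, rfl⟩
    have hbb : b * b = 0 := by rcases hb with rfl | hb; · simp
                               exact hb.dmin.inG.sq
    refine ⟨cj g⁻¹ b, hb.imp (fun h => by rw [h, cj_zero]) (fun h => ?_), ?_⟩
    · have := class_cj (inv_mem hg) h
      rwa [cj_inv_cj] at this
    · rw [← conj_ex g⁻¹ hbb, inv_inv]

/-- `g` acts trivially on `range a`, on `ker a / range a` and on `M / ker a`. -/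
structure IsLow (a : Module.End k M) (g : LinearMap.GeneralLinearGroup k M) : Prop where
  bot : ∀ v ∈ LinearMap.range a, (g : Module.End k M) v = v
  mid : ∀ v ∈ LinearMap.ker a, (g : Module.End k M) v - v ∈ LinearMap.range a
  top : ∀ v, (g : Module.End k M) v - v ∈ LinearMap.ker a

theorem IsLow.one : IsLow a (1 : LinearMap.GeneralLinearGroup k M) :=
  ⟨fun v _ => rfl, fun v _ => by simp, fun v => by simp⟩

theorem IsLow.mul (haa : a * a = 0) {h : LinearMap.GeneralLinearGroup k M} (hg : IsLow a g) (hh : IsLow a h) :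
    IsLow a (g * h) := by
  have hrk : LinearMap.range a ≤ LinearMap.ker a := LinearMap.range_le_ker_iff.2 haa
  have hfix : ∀ v ∈ LinearMap.range a, (h : Module.End k M) v ∈ LinearMap.range a := fun v hv => by
    rw [hh.bot v hv]; exact hv
  refine ⟨fun v hv => ?_, fun v hv => ?_, fun v => ?_⟩
  · rw [Units.val_mul, Module.End.mul_apply, hh.bot v hv, hg.bot v hv]
  · have h1 : (h : Module.End k M) v ∈ LinearMap.ker a := by
      have := (LinearMap.ker a).add_mem (hrk (hh.mid v hv)) hv
      rwa [sub_add_cancel] at this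
    have := (LinearMap.range a).add_mem (hg.mid _ h1) (hh.mid v hv)
    rwa [sub_add_sub_cancel] at this
  · have := (LinearMap.ker a).add_mem (hg.top ((h : Module.End k M) v)) (hh.top v)
    rwa [sub_add_sub_cancel] at this

theorem IsLow.pow (haa : a * a = 0) (hg : IsLow a g) : ∀ n : ℕ, IsLow a (g ^ n)
  | 0 => by rw [pow_zero]; exact IsLow.one
  | n + 1 => by rw [pow_succ]; exact (IsLow.pow haa hg n).mul haa hg

/-- The elements of `X` lowering the flag of `a`. -/
def lowSub [Finite (LinearMap.GeneralLinearGroup k M)] (X : Subgroup (LinearMap.GeneralLinearGroup k M))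
    (a : Module.End k M) (haa : a * a = 0) : Subgroup (LinearMap.GeneralLinearGroup k M) :=
  Subgroup.copy
    (subgroupOfIdempotent {g | g ∈ X ∧ IsLow a g} ⟨1, one_mem _, IsLow.one⟩ (by
      refine Set.Subset.antisymm ?_ fun g hg => ⟨g, hg, 1, ⟨one_mem _, IsLow.one⟩, mul_one g⟩
      rintro _ ⟨g, hg, h, hh, rfl⟩
      exact ⟨mul_mem hg.1 hh.1, hg.2.mul haa hh.2⟩))
    {g | g ∈ X ∧ IsLow a g} rfl

theorem mem_lowSub [Finite (LinearMap.GeneralLinearGroup k M)] (haa : a * a = 0) :
    g ∈ lowSub X a haa ↔ g ∈ X ∧ IsLow a g := Iff.rfl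

theorem isPGroup_lowSub [Finite (LinearMap.GeneralLinearGroup k M)] {p : ℕ} [hp : Fact p.Prime] [CharP k p]
    (hp3 : 3 ≤ p) (haa : a * a = 0) : IsPGroup p (lowSub X a haa) := by
  rintro ⟨g, hg⟩
  obtain ⟨-, hg⟩ := (mem_lowSub haa).1 hg
  refine ⟨1, Subtype.ext (Units.ext ?_)⟩
  set N : Module.End k M := (g : Module.End k M) - 1
  have hN : N ^ 3 = 0 := by
    refine LinearMap.ext fun v => ?_
    show N (N (N v)) = 0
    have h2 : N (N v) ∈ LinearMap.range a := hg.mid _ (hg.top v)
    show (g : Module.End k M) (N (N v)) - N (N v) = 0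
    rw [hg.bot _ h2, sub_self]
  have hNp : N ^ p = 0 := pow_eq_zero_of_le hp3 hN
  by_cases hM : Nontrivial (Module.End k M)
  · haveI : CharP (Module.End k M) p := charP_of_injective_algebraMap (algebraMap k (Module.End k M)).injective p
    have := sub_pow_char_of_commute (R := Module.End k M) (p := p) (Commute.one_right (g : Module.End k M))
    rw [one_pow] at this
    rw [pow_one, Subgroup.coe_pow, Subgroup.coe_one, Units.val_pow_eq_pow_val, Units.val_one]
    exact sub_eq_zero.1 (this.symm.trans hNp)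
  · rw [not_nontrivial_iff_subsingleton] at hM
    exact Subsingleton.elim _ _

end Cfsg.Agent.CoprimeZJ
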