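import Cfsg.Agent.Lib.CoprimeZJ.Normal
import Cfsg.Agent.Lib.QuadRoot.Surjective
import Cfsg.Agent.Lib.Coprime.Invariant

/-!
Transitivity on the opposites of a minimal element.
* `IsTorus`, `exists_torus` : the element `diag(2, 1, 1/2)` attached to an opposite pair
* `exists_low_conj` : the classes opposite to `a` are conjugate under `lowSub X a`
-/

set_option autoImplicit false
set_option linter.unusedSectionVars false

namespace Cfsg.Agent.CoprimeZJ

open Cfsg Module Cfsg.Agent.QuadRoot
open Cfsg.Agent.QuadPair (upR loR)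
open scoped MatrixGroups

universe u v

variable {k : Type u} [Field k] {M : Type v} [AddCommGroup M] [Module k M] [Finite M] [FiniteDimensional k M]
  {X : Subgroup (LinearMap.GeneralLinearGroup k M)} {a b : Module.End k M} {p : ℕ} [hp : Fact p.Prime] [CharP k p]

instance : Finite (LinearMap.GeneralLinearGroup k M) :=
  haveI : Finite (Module.End k M) := Finite.of_injective (fun f : Module.End k M => (f : M → M)) DFunLike.coe_injective
  Finite.of_injective (fun u => (u : Module.End k M)) Units.val_injective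

theorem natCast_ne (n : ℕ) (h0 : 0 < n) (h1 : n < p) : (n : k) ≠ 0 := fun e =>
  absurd (Nat.le_of_dvd h0 ((CharP.cast_eq_zero_iff k p n).1 e)) (by omega)

/-- The torus element of an opposite pair, with its spaces. -/
structure IsTorus (X : Subgroup (LinearMap.GeneralLinearGroup k M)) (p : ℕ) (a b : Module.End k M)
    (h : LinearMap.GeneralLinearGroup k M) : Prop where
  mem : h ∈ X
  bot : ∀ v ∈ LinearMap.range a, (h : Module.End k M) v = (2 : k) • v
  mid : ∀ v ∈ LinearMap.ker a, (h : Module.End k M) v - v ∈ LinearMap.range a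
  top : ∀ v, (h : Module.End k M) v - (2 : k)⁻¹ • v ∈ LinearMap.ker a
  pow : h ^ (p - 1) = 1
  range_b : LinearMap.range b = LinearMap.range (((h : Module.End k M) - (2 : k) • 1) * ((h : Module.End k M) - 1))
  ker_b : LinearMap.ker b = LinearMap.range ((h : Module.End k M) - (2 : k) • 1)

theorem exists_torus (hp5 : 5 ≤ p) (hk2 : ringChar k ≠ 2) (hk3 : Nat.card k ≠ 3) (ha : Dmin X a) (hb : Dmin X b)
    (ho : Opp a b) : ∃ h, IsTorus X p a b h := by
  obtain ⟨L, _, _, ⟨c⟩⟩ := exists_model hk2 hk3 ha hb ho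
  have h2 : (2 : k) ≠ 0 := by exact_mod_cast natCast_ne (k := k) (p := p) 2 (by omega) (by omega)
  have h3 : (3 : k) ≠ 0 := by exact_mod_cast natCast_ne (k := k) (p := p) 3 (by omega) (by omega)
  set t : L := algebraMap k L 2
  have ht : t ≠ 0 := (map_ne_zero _).2 h2
  let d : SL(2, L) := ⟨!![t, 0; 0, t⁻¹], by simp [Matrix.det_fin_two, mul_inv_cancel₀ ht]⟩
  have hH : (c.rho d : Module.End k M) = (2 : k) • eC c + (2 : k)⁻¹ • eD c + eO c := by
    rw [c.coe_rho]
    show c.T !![t, 0; 0, t⁻¹] + eO c = _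
    unfold eC eD
    rw [← c.T.map_smul, ← c.T.map_smul, ← map_add]
    congr 2
    ext i j; rw [Matrix.add_apply, Matrix.smul_apply, Matrix.smul_apply]
    fin_cases i <;> fin_cases j <;> simp [t, Algebra.smul_def]
  obtain ⟨oCO, oOC, oDO, oOD⟩ := orth c
  obtain ⟨oCD, oDC⟩ := eC_eD c
  have cC := eC_eC c; have cD := eD_eD c; have cO := eO_eO c
  have app : ∀ {x y z : Module.End k M}, x * y = z → ∀ v, x (y v) = z v := fun e v => LinearMap.congr_fun e v
  have e1 : (c.rho d : Module.End k M) - (2 : k) • 1 = ((2 : k)⁻¹ - 2) • eD c - eO c := by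
    rw [hH, ← sum_eq c, smul_add, smul_add, sub_smul, two_smul k (eO c)]
    abel
  have e2 : ((c.rho d : Module.End k M) - (2 : k) • 1) * ((c.rho d : Module.End k M) - 1) =
      (((2 : k)⁻¹ - 2) * ((2 : k)⁻¹ - 1)) • eD c := by
    have e : (c.rho d : Module.End k M) - 1 = ((2 : k) - 1) • eC c + ((2 : k)⁻¹ - 1) • eD c := by
      rw [hH, ← sum_eq c, sub_smul, sub_smul, one_smul, one_smul]; abel
    rw [e1, e]
    simp only [sub_mul, mul_add, smul_mul_assoc, mul_smul_comm, oDC, cD, oOC, oOD, smul_zero, zero_add,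
      sub_zero, smul_smul]
    congr 1; ring
  have hc1 : (2 : k)⁻¹ - 2 ≠ 0 := fun e => h3 (by
    have := mul_inv_cancel₀ h2
    rw [sub_eq_zero.1 e] at this
    linear_combination this)
  have hc2 : (2 : k)⁻¹ - 1 ≠ 0 := fun e => one_ne_zero (α := k) (by
    have := mul_inv_cancel₀ h2
    rw [sub_eq_zero.1 e] at this
    linear_combination this)
  have hkb : LinearMap.ker (eC c) = LinearMap.ker b := by
    refine le_antisymm ?_ ?_
    · have e : b * eC c = b := by
        unfold eC; rw [c.b_mul_T]; conv_rhs => rw [← c.map_b']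
        congr 1; ext i j; fin_cases i <;> fin_cases j <;> simp
      conv_rhs => rw [← e]
      exact LinearMap.ker_le_ker_comp _ _
    · have e : eC c = c.T !![0, c.pb.gen⁻¹; 0, 0] * b := by
        unfold eC; rw [c.T_mul_b]; congr 1
        ext i j; fin_cases i <;> fin_cases j <;> simp [inv_mul_cancel₀ c.unit.ne_zero]
      rw [e]; exact LinearMap.ker_le_ker_comp _ _
  refine ⟨c.rho d, c.mem d, ?_, ?_, ?_, ?_, ?_, ?_⟩
  · intro v hv
    rw [← range_eC c] at hv
    obtain ⟨w, rfl⟩ := hv
    rw [hH]
    simp only [LinearMap.add_apply, LinearMap.smul_apply, app cC, app oDC, app oOC, LinearMap.zero_apply,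
      smul_zero, add_zero]
  · intro v hv
    rw [← ker_eD c, LinearMap.mem_ker] at hv
    rw [← range_eC c]
    have hs : eC c v + eO c v + eD c v = v := LinearMap.congr_fun (sum_eq c) v
    refine ⟨((2 : k) - 1) • v, ?_⟩
    rw [hv, add_zero] at hs
    rw [map_smul, hH, LinearMap.add_apply, LinearMap.add_apply, LinearMap.smul_apply, LinearMap.smul_apply, hv,
      smul_zero, add_zero]
    nth_rewrite 4 [← hs]
    rw [sub_smul, one_smul]; abel
  · intro v
    rw [← ker_eD c, LinearMap.mem_ker, hH]
    simp only [map_sub, map_add, map_smul, LinearMap.add_apply, LinearMap.smul_apply, app oDC, app cD, app oDO,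
      LinearMap.zero_apply, smul_zero, zero_add, add_zero, sub_self]
  · have hd : ∀ n : ℕ, ((d ^ n : SL(2, L)) : Matrix (Fin 2) (Fin 2) L) = !![t ^ n, 0; 0, t⁻¹ ^ n] := by
      intro n
      induction n with
      | zero => simp [Matrix.one_fin_two]
      | succ n ih =>
        rw [pow_succ, Matrix.SpecialLinearGroup.coe_mul, ih, pow_succ, pow_succ]
        ext i j; fin_cases i <;> fin_cases j <;> simp [d]
    rw [← map_pow, show d ^ (p - 1) = 1 from Subtype.ext ?_, map_one]
    have ht1 : t ^ (p - 1) = 1 := by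
      have h0 : ((2 : ℕ) : ZMod p) ≠ 0 := natCast_ne (p := p) 2 two_pos (by omega)
      have := congrArg ((algebraMap k L).comp (ZMod.castHom dvd_rfl k)) (ZMod.pow_card_sub_one_eq_one h0)
      rw [map_pow, map_one, map_natCast] at this
      simpa [t, map_ofNat] using this
    rw [hd, inv_pow, ht1, inv_one, Matrix.SpecialLinearGroup.coe_one, Matrix.one_fin_two]
  · rw [e2, LinearMap.range_smul _ _ (mul_ne_zero hc1 hc2), range_eD]
  · rw [← hkb, e1]
    refine le_antisymm (fun v hv => ?_) ?_
    · rw [LinearMap.mem_ker] at hv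
      refine ⟨(((2 : k)⁻¹ - 2)⁻¹) • eD c v - eO c v, ?_⟩
      have hs : eC c v + eO c v + eD c v = v := LinearMap.congr_fun (sum_eq c) v
      rw [hv, zero_add] at hs
      simp only [map_sub, map_smul, LinearMap.sub_apply, LinearMap.smul_apply, app cD, app oDO, app oOD, app cO,
        LinearMap.zero_apply, smul_zero, sub_zero, zero_sub, smul_smul, inv_mul_cancel₀ hc1, one_smul]
      rw [sub_neg_eq_add, add_comm]; exact hs
    · rw [LinearMap.range_le_ker_iff, ← Module.End.mul_eq_comp, mul_sub, mul_smul_comm, oCD, oCO, smul_zero,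
        sub_zero]

theorem ker_cj' (g : LinearMap.GeneralLinearGroup k M) (x : Module.End k M) :
    LinearMap.ker (cj g x) = (LinearMap.ker x).map (g : Module.End k M) := by
  rw [ker_cj]
  ext v
  refine ⟨fun hv => ⟨_, hv, ?_⟩, ?_⟩
  · rw [← Module.End.mul_apply, Units.mul_inv]; rfl
  · rintro ⟨w, hw, rfl⟩
    rw [Submodule.mem_comap, ← Module.End.mul_apply, Units.inv_mul]
    exact hw

/-- The classes opposite to `a` are conjugate by elements lowering its flag. -/
theorem exists_low_conj (hp5 : 5 ≤ p) (hk2 : ringChar k ≠ 2) (hk3 : Nat.card k ≠ 3) (ha : Dmin X a)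
    {b' : Module.End k M} (hb : Dmin X b) (ho : Opp a b) (hb' : Dmin X b') (ho' : Opp a b') :
    ∃ u ∈ lowSub X a ha.inG.sq, conjBy (cl X b) u = cl X b' := by
  obtain ⟨h, hh⟩ := exists_torus hp5 hk2 hk3 ha hb ho
  obtain ⟨h', hh'⟩ := exists_torus hp5 hk2 hk3 ha hb' ho'
  have haa := ha.inG.sq
  have hrk : LinearMap.range a ≤ LinearMap.ker a := LinearMap.range_le_ker_iff.2 haa
  have h2 : (2 : k) ≠ 0 := by exact_mod_cast natCast_ne (k := k) (p := p) 2 (by omega) (by omega)
  set U := lowSub X a haa
  -- a flag preserving element with its inverse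
  have hpres : ∀ {g : LinearMap.GeneralLinearGroup k M}, IsTorus X p a b g ∨ IsTorus X p a b' g → ∀ n : ℕ,
      (∀ v ∈ LinearMap.range a, ((g ^ n : LinearMap.GeneralLinearGroup k M) : Module.End k M) v ∈ LinearMap.range a) ∧
      (∀ v ∈ LinearMap.ker a, ((g ^ n : LinearMap.GeneralLinearGroup k M) : Module.End k M) v ∈ LinearMap.ker a) := by
    intro g hg n
    have hbot : ∀ v ∈ LinearMap.range a, (g : Module.End k M) v ∈ LinearMap.range a := fun v hv => by
      rcases hg with hg | hg <;> (rw [hg.bot v hv]; exact Submodule.smul_mem _ _ hv)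
    have hmid : ∀ v ∈ LinearMap.ker a, (g : Module.End k M) v ∈ LinearMap.ker a := fun v hv => by
      rcases hg with hg | hg <;>
        (have := (LinearMap.ker a).add_mem (hrk (hg.mid v hv)) hv; rwa [sub_add_cancel] at this)
    induction n with
    | zero => exact ⟨fun v hv => hv, fun v hv => hv⟩
    | succ n ih =>
      rw [pow_succ, Units.val_mul]
      exact ⟨fun v hv => ih.1 _ (hbot v hv), fun v hv => ih.2 _ (hmid v hv)⟩
  have hinv : h⁻¹ = h ^ (p - 2) := inv_eq_of_mul_eq_one_right (by
    rw [← pow_succ', show p - 2 + 1 = p - 1 by omega, hh.pow])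
  have hi := hpres (Or.inl hh) (p - 2)
  rw [← hinv] at hi
  have hinvapp : ∀ v, ((h⁻¹ : LinearMap.GeneralLinearGroup k M) : Module.End k M) ((h : Module.End k M) v) = v :=
    fun v => by rw [← Module.End.mul_apply, Units.inv_mul]; rfl
  -- the quotient lies in `U`
  have hq : h⁻¹ * h' ∈ U := by
    refine (mem_lowSub haa).2 ⟨X.mul_mem (inv_mem hh.mem) hh'.mem, ?_, ?_, ?_⟩
    · intro v hv
      rw [Units.val_mul, Module.End.mul_apply, hh'.bot v hv, ← hh.bot v hv, hinvapp]
    · intro v hv
      have e : (h' : Module.End k M) v - (h : Module.End k M) v ∈ LinearMap.range a := by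
        have := sub_mem (hh'.mid v hv) (hh.mid v hv)
        rwa [sub_sub_sub_cancel_right] at this
      have := hi.1 _ e
      rwa [map_sub, hinvapp, ← Module.End.mul_apply, ← Units.val_mul] at this
    · intro v
      have e : (h' : Module.End k M) v - (h : Module.End k M) v ∈ LinearMap.ker a := by
        have := sub_mem (hh'.top v) (hh.top v)
        rwa [sub_sub_sub_cancel_right] at this
      have := hi.2 _ e
      rwa [map_sub, hinvapp, ← Module.End.mul_apply, ← Units.val_mul] at this
  -- `h` normalises `U`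
  have hN : Subgroup.zpowers h ≤ Subgroup.normalizer (U : Set (LinearMap.GeneralLinearGroup k M)) := by
    rw [Subgroup.zpowers_le]
    refine Coprime.mem_normalizer_of_forall fun x hx => ?_
    obtain ⟨hxX, hx⟩ := (mem_lowSub haa).1 hx
    refine (mem_lowSub haa).2 ⟨X.mul_mem (X.mul_mem hh.mem hxX) (inv_mem hh.mem), ?_, ?_, ?_⟩
    · intro v hv
      rw [Units.val_mul, Units.val_mul, Module.End.mul_apply, Module.End.mul_apply, hx.bot _ (hi.1 v hv),
        ← Module.End.mul_apply, Units.mul_inv]
      rfl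
    · intro v hv
      have := (hpres (Or.inl hh) 1).1 _ (hx.mid _ (hi.2 v hv))
      rwa [pow_one, map_sub, ← Module.End.mul_apply (h : Module.End k M), ← Module.End.mul_apply _
        (((h⁻¹ : LinearMap.GeneralLinearGroup k M)) : Module.End k M), ← Units.val_mul, ← Units.val_mul,
        ← Module.End.mul_apply (h : Module.End k M), Units.mul_inv, Module.End.one_apply] at this
    · intro v
      have := (hpres (Or.inl hh) 1).2 _ (hx.top (((h⁻¹ : LinearMap.GeneralLinearGroup k M) : Module.End k M) v))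
      rwa [pow_one, map_sub, ← Module.End.mul_apply (h : Module.End k M), ← Module.End.mul_apply _
        (((h⁻¹ : LinearMap.GeneralLinearGroup k M)) : Module.End k M), ← Units.val_mul, ← Units.val_mul,
        ← Module.End.mul_apply (h : Module.End k M), Units.mul_inv, Module.End.one_apply] at this
  have hUp : IsPGroup p U := isPGroup_lowSub (by omega) haa
  obtain ⟨n, hn⟩ := IsPGroup.iff_card.1 hUp
  have hcop : ∀ {g : LinearMap.GeneralLinearGroup k M}, g ^ (p - 1) = 1 →
      (Nat.card (Subgroup.zpowers g)).Coprime (Nat.card U) := by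
    intro g hg
    rw [hn, Nat.card_zpowers]
    refine Nat.Coprime.pow_right _ ((Nat.Coprime.symm ?_).coprime_dvd_left (orderOf_dvd_of_pow_eq_one hg))
    exact (hp.out.coprime_iff_not_dvd).2 fun e => by
      have := Nat.le_of_dvd (by omega) e
      omega
  -- equal orders
  have hmem : ∀ m : ℕ, (h⁻¹) ^ m * h' ^ m ∈ U := by
    intro m
    induction m with
    | zero => simp
    | succ m ih =>
      have := (Subgroup.mem_normalizer_iff.1 (hN (inv_mem (Subgroup.mem_zpowers h))) _).1 ih
      rw [inv_inv] at this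
      have := U.mul_mem this hq
      rwa [show h⁻¹ * (h⁻¹ ^ m * h' ^ m) * h * (h⁻¹ * h') = h⁻¹ ^ (m + 1) * h' ^ (m + 1) by group] at this
  have hord : orderOf h' = orderOf h := by
    refine Nat.dvd_antisymm (orderOf_dvd_of_pow_eq_one ?_) (orderOf_dvd_of_pow_eq_one ?_)
    · have := hmem (orderOf h)
      rw [inv_pow, pow_orderOf_eq_one, inv_one, one_mul] at this
      exact Coprime.eq_one_of_mem_of_mem (hcop hh'.pow) (Subgroup.pow_mem _ (Subgroup.mem_zpowers h') _) this
    · have := hmem (orderOf h')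
      rw [pow_orderOf_eq_one, mul_one, inv_pow, U.inv_mem_iff] at this
      exact Coprime.eq_one_of_mem_of_mem (hcop hh.pow) (Subgroup.pow_mem _ (Subgroup.mem_zpowers h) _) this
  obtain ⟨n, hnU, hne⟩ := Coprime.exists_conj_eq_of_le_sup hN (hcop hh.pow)
    (Or.inl (Coprime.isSolvable_of_le le_rfl inferInstance)) (L := Subgroup.zpowers h')
    (by
      rw [Subgroup.zpowers_le, show h' = h * (h⁻¹ * h') by group]
      exact mul_mem (Subgroup.mem_sup_right (Subgroup.mem_zpowers h)) (Subgroup.mem_sup_left hq))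
    (by rw [Nat.card_zpowers, Nat.card_zpowers, hord])
  have hconj : n * h * n⁻¹ = h' := by
    have h1 : n * h * n⁻¹ ∈ Subgroup.zpowers h' := hne.le (Coprime.conj_mem_conj.2 (Subgroup.mem_zpowers h))
    have h2 : h'⁻¹ * (n * h * n⁻¹) ∈ U := by
      have := U.mul_mem (U.mul_mem (inv_mem hq)
        ((Subgroup.mem_normalizer_iff.1 (hN (inv_mem (Subgroup.mem_zpowers h))) _).1 hnU)) (inv_mem hnU)
      rwa [show (h⁻¹ * h')⁻¹ * (h⁻¹ * n * h⁻¹⁻¹) * n⁻¹ = h'⁻¹ * (n * h * n⁻¹) by group] at this
    exact (inv_mul_eq_one.1 (Coprime.eq_one_of_mem_of_mem (hcop hh'.pow)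
      (mul_mem (inv_mem (Subgroup.mem_zpowers h')) h1) h2)).symm
  refine ⟨n, hnU, ?_⟩
  have hnN : n ∈ Subgroup.normalizer (X : Set (LinearMap.GeneralLinearGroup k M)) :=
    Subgroup.le_normalizer ((mem_lowSub haa).1 hnU).1
  rw [cl_cj hnN hb]
  have ecj : cj n (h : Module.End k M) = (h' : Module.End k M) := by rw [← hconj]; rfl
  have r1 : LinearMap.range (cj n b) = LinearMap.range b' := by
    rw [range_cj, hh.range_b, ← range_cj, cj_mul, cj_sub, cj_sub, cj_smul, cj_one, ecj, ← hh'.range_b]
  have r2 : LinearMap.ker (cj n b) = LinearMap.ker b' := by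
    rw [hh'.ker_b, show (h' : Module.End k M) - (2 : k) • 1 = cj n ((h : Module.End k M) - (2 : k) • 1) by
      rw [cj_sub, cj_smul, cj_one, ecj], range_cj, ker_cj', hh.ker_b]
  exact sameActionSubgroup_congr hb' ⟨dmin_cj hnN hb, r2, r1⟩

end Cfsg.Agent.CoprimeZJ
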