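import Cfsg.Agent.Lib.CoprimeZJ.Jordan
import Cfsg.Agent.Lib.CoprimeZJ.Transit

/-!
The action of `X ⊓ N(E⟨a⟩) ⊓ N(E⟨b⟩)` on the class of `a`, for an opposite pair `a`, `b`.
* `exists_swap` : an element of `X` exchanging the two classes, `q ↦ -(y q y)`, `u ↦ -(z u z)`
* `orbit_half` : every orbit covers at least half of the class
-/

set_option autoImplicit false
set_option linter.unusedSectionVars false
set_option linter.style.haveILetI false

namespace Cfsg.Agent.CoprimeZJ

open Cfsg Module Cfsg.Agent.QuadRoot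
open Cfsg.Agent.QuadPair (upR loR coe_upR coe_loR)
open scoped MatrixGroups

universe u v

variable {k : Type u} [Field k] {M : Type v} [AddCommGroup M] [Module k M]
  {X : Subgroup (LinearMap.GeneralLinearGroup k M)} {a b u x y : Module.End k M}
  {g : LinearMap.GeneralLinearGroup k M}

theorem class_trans (h1 : SameClass X a u) (h2 : SameClass X u x) : SameClass X a x :=
  ⟨h2.dmin, h2.ker.trans h1.ker, h2.range.trans h1.range⟩

theorem class_symm (ha : Dmin X a) (h : SameClass X a u) : SameClass X u a := ⟨ha, h.ker.symm, h.range.symm⟩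

theorem class_neg (h : SameClass X a u) : SameClass X a (-u) := by
  have := h.smul (c := (-1 : k)) (neg_ne_zero.2 one_ne_zero)
  rwa [neg_one_smul] at this

theorem cj_neg (g : LinearMap.GeneralLinearGroup k M) (u : Module.End k M) : cj g (-u) = -cj g u := by simp [cj]

variable [FiniteDimensional k M]

theorem mem_normalizer_cl (hg : g ∈ Subgroup.normalizer (X : Set (LinearMap.GeneralLinearGroup k M)))
    (ha : Dmin X a) (h : SameClass X a (cj g a)) :
    g ∈ Subgroup.normalizer ((cl X a : Subgroup (LinearMap.GeneralLinearGroup k M)) : Set _) := by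
  rw [← RankOne.conjBy_eq_self_iff, cl_cj hg ha]
  exact sameActionSubgroup_congr ha h

theorem class_of_normalizer (hg : g ∈ Subgroup.normalizer (X : Set (LinearMap.GeneralLinearGroup k M)))
    (ha : Dmin X a)
    (hga : g ∈ Subgroup.normalizer ((cl X a : Subgroup (LinearMap.GeneralLinearGroup k M)) : Set _))
    (hu : SameClass X a u) : SameClass X a (cj g u) := by
  rw [← RankOne.conjBy_eq_self_iff, cl_cj hg ha] at hga
  exact class_trans (class_of_cl ha (dmin_cj hg ha) hga) (class_cj hg hu)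

theorem exists_swap (hk2 : ringChar k ≠ 2) (hk3 : Nat.card k ≠ 3) (ha : Dmin X a) (hb : Dmin X b) (ho : Opp a b)
    (hy : SameClass X a y) : ∃ (n : LinearMap.GeneralLinearGroup k M) (z : Module.End k M),
      n ∈ X ∧ SameClass X b z ∧ y * z * y = y ∧ z * y * z = z ∧
      (∀ q, SameClass X b q → cj n q = -(y * q * y) ∧ SameClass X a (y * q * y)) ∧
      (∀ w, SameClass X a w → cj n w = -(z * w * z) ∧ SameClass X b (z * w * z)) := by
  obtain ⟨L, _, _, ⟨c⟩⟩ := exists_model hk2 hk3 hy.dmin hb (ho.of_class hk2 hk3 ha hb hy (SameClass.refl hb))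
  set z := c.T !![0, 0; 1, 0] with hzdef
  obtain ⟨f1, f2, f3, f4, -, -, f5, f6⟩ := units_z c
  have hz : SameClass X b z := c.lo_class hb one_ne_zero
  have hyzy : y * z * y = y := by rw [f1, (z_eC c).1]
  have hzyz : z * y * z = z := by rw [f2, f3]
  obtain ⟨f7, f8⟩ := T_eO c !![0, 0; 1, 0]
  set n := c.rho (upR 1 * loR (-1) * upR 1) with hndef
  have hinv : n⁻¹ = c.rho (upR (-1) * loR 1 * upR (-1)) := by
    refine inv_eq_of_mul_eq_one_right ?_
    rw [hndef, ← map_mul, ← map_one c.rho]
    congr 1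
    refine Subtype.ext ?_
    ext i j
    fin_cases i <;> fin_cases j <;> simp [Matrix.mul_apply, Fin.sum_univ_two, coe_upR, coe_loR]
  have hn : (n : Module.End k M) = y - z + eO c := (rho_swap c).1
  have hn' : ((n⁻¹ : LinearMap.GeneralLinearGroup k M) : Module.End k M) = -y + z + eO c := by
    rw [hinv]; exact (rho_swap c).2
  have kill : ∀ {s w : Module.End k M}, LinearMap.ker w = LinearMap.ker s → LinearMap.range w = LinearMap.range s →
      s * eO c = 0 → eO c * s = 0 → w * eO c = 0 ∧ eO c * w = 0 := by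
    intro s w hk hr h1 h2
    constructor
    · rw [Module.End.mul_eq_comp, ← LinearMap.range_le_ker_iff, hk, LinearMap.range_le_ker_iff]; exact h1
    · rw [Module.End.mul_eq_comp, ← LinearMap.range_le_ker_iff, hr, LinearMap.range_le_ker_iff]; exact h2
  have hq' : ∀ q, SameClass X b q → cj n q = -(y * q * y) := by
    intro q hq
    obtain ⟨g1, g2⟩ := kill (hq.ker.trans hz.ker.symm) (hq.range.trans hz.range.symm) f7 f8
    have z1 := SameClass.mul_eq_zero hb.inG.sq hz hq
    have z2 := SameClass.mul_eq_zero hb.inG.sq hq hz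
    show (n : Module.End k M) * q * ((n⁻¹ : LinearMap.GeneralLinearGroup k M) : Module.End k M) = _
    rw [hn, hn', add_mul, sub_mul, z1, g2, sub_zero, add_zero, mul_add, mul_add, mul_neg, mul_assoc y q z, z2,
      mul_assoc y q (eO c), g1, mul_zero, add_zero, add_zero]
  have hw' : ∀ w, SameClass X a w → cj n w = -(z * w * z) := by
    intro w hw
    obtain ⟨g1, g2⟩ := kill (hw.ker.trans hy.ker.symm) (hw.range.trans hy.range.symm) f5 f6
    have z1 := SameClass.mul_eq_zero ha.inG.sq hy hw
    have z2 := SameClass.mul_eq_zero ha.inG.sq hw hy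
    show (n : Module.End k M) * w * ((n⁻¹ : LinearMap.GeneralLinearGroup k M) : Module.End k M) = _
    rw [hn, hn', add_mul, sub_mul, z1, g2, zero_sub, add_zero, mul_add, mul_add, mul_neg, neg_mul, neg_mul,
      neg_mul, mul_assoc z w y, z2, mul_assoc z w (eO c), g1, mul_zero, neg_zero, neg_zero, zero_add, add_zero]
  have hnX : n ∈ X := c.mem _
  have hnN := Subgroup.le_normalizer (H := X) hnX
  refine ⟨n, z, hnX, hz, hyzy, hzyz, fun q hq => ⟨hq' q hq, ?_⟩, fun w hw => ⟨hw' w hw, ?_⟩⟩
  · have h1 := class_cj hnN (class_trans (class_symm hb hz) hq)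
    rw [hq' q hq, hq' z hz, hyzy] at h1
    have h2 := class_neg (class_trans (class_neg hy) h1)
    rwa [neg_neg] at h2
  · have h1 := class_cj hnN (class_trans (class_symm ha hy) hw)
    rw [hw' w hw, hw' y hy, hzyz] at h1
    have h2 := class_neg (class_trans (class_neg hz) h1)
    rwa [neg_neg] at h2

/-- The subgroup fixing both classes. -/
abbrev torusSub (X : Subgroup (LinearMap.GeneralLinearGroup k M)) (a b : Module.End k M) :
    Subgroup (LinearMap.GeneralLinearGroup k M) :=
  X ⊓ Subgroup.normalizer ((cl X a : Subgroup (LinearMap.GeneralLinearGroup k M)) : Set _) ⊓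
    Subgroup.normalizer ((cl X b : Subgroup (LinearMap.GeneralLinearGroup k M)) : Set _)

theorem orbit_half [Finite M] (hk2 : ringChar k ≠ 2) (hk3 : Nat.card k ≠ 3) (ha : Dmin X a) (hb : Dmin X b)
    (ho : Opp a b) (hx : SameClass X a x) : Nat.card {u // SameClass X a u} ≤
      2 * Nat.card {u // SameClass X a u ∧ ∃ g ∈ torusSub X a b, cj g x = u} := by
  classical
  haveI : Finite (Module.End k M) := Finite.of_injective (fun f : Module.End k M => (f : M → M)) DFunLike.coe_injective
  obtain ⟨nx, z, hnx, hz, hxzx, hzxz, hxq, hxw⟩ := exists_swap hk2 hk3 ha hb ho hx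
  choose ny zy hny hzy hyzy hzyz hyq hyw using fun y : {u // SameClass X a u} => exists_swap hk2 hk3 ha hb ho y.2
  have hg : ∀ y : {u // SameClass X a u}, ny y * nx ∈ torusSub X a b ∧ cj (ny y * nx) x = y.1 * z * y.1 := by
    intro y
    have hmem : ny y * nx ∈ X := mul_mem (hny y) hnx
    have hN := Subgroup.le_normalizer (H := X) hmem
    have e : ∀ w, SameClass X a w → cj (ny y * nx) w = y.1 * (z * w * z) * y.1 ∧
        SameClass X a (y.1 * (z * w * z) * y.1) := fun w hw => by
      obtain ⟨e1, c1⟩ := hxw w hw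
      obtain ⟨e2, c2⟩ := hyq y _ c1
      exact ⟨by rw [← cj_cj, e1, cj_neg, e2, neg_neg], c2⟩
    refine ⟨⟨⟨hmem, mem_normalizer_cl hN ha ?_⟩, mem_normalizer_cl hN hb ?_⟩, ?_⟩
    · obtain ⟨e1, c1⟩ := e a (SameClass.refl ha)
      rwa [e1]
    · obtain ⟨e1, c1⟩ := hxq b (SameClass.refl hb)
      obtain ⟨e2, c2⟩ := hyw y _ c1
      rw [← cj_cj, e1, cj_neg, e2, neg_neg]
      exact c2
    · rw [(e x hx).1, hzxz]
  set W := LinearMap.range x
  haveI : Nontrivial W := Submodule.nontrivial_iff_ne_bot.2 fun e => hx.dmin.ne (LinearMap.range_eq_bot.1 e)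
  set π : M →ₗ[k] W := LinearMap.codRestrict W (x * z) (fun v => LinearMap.mem_range_self x (z v))
  set φ : Module.End k M →+ Module.End k W :=
    { toFun := fun w => π ∘ₗ w ∘ₗ z ∘ₗ W.subtype
      map_zero' := LinearMap.ext fun v => by simp
      map_add' := fun w w' => LinearMap.ext fun v => by simp }
  have hfix : ∀ v ∈ W, x (z v) = v := by
    rintro _ ⟨v, rfl⟩
    exact LinearMap.congr_fun hxzx v
  let C0 : AddSubgroup (Module.End k M) :=
    { carrier := {w | w = 0 ∨ SameClass X a w}
      zero_mem' := Or.inl rfl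
      add_mem' := by
        rintro w w' (rfl | hw) hw'
        · rwa [zero_add]
        · rcases hw' with rfl | hw'
          · rw [add_zero]; exact Or.inr hw
          · exact (em _).imp id fun h0 => hw.add ha hw' h0
      neg_mem' := by rintro w (rfl | hw); exacts [Or.inl neg_zero, Or.inr (class_neg hw)] }
  have hval : ∀ w ∈ C0, ∀ v : W, ((φ w v : W) : M) = w (z (v : M)) := by
    intro w hw v
    show x (z (w (z (v : M)))) = _
    refine hfix _ ?_
    rcases hw with rfl | hw
    · exact zero_mem _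
    · show w _ ∈ LinearMap.range x
      rw [hx.range, ← hw.range]; exact LinearMap.mem_range_self w _
  have hunit : ∀ w ∈ C0, w ≠ 0 → IsUnit (φ w) := by
    intro w hw hw0
    rw [LinearMap.isUnit_iff_ker_eq_bot, LinearMap.ker_eq_bot']
    intro v hv
    have h1 : w (z (v : M)) = 0 := by rw [← hval w hw v, hv]; rfl
    rcases hw with rfl | hw
    · exact absurd rfl hw0
    have h2 : z (v : M) ∈ LinearMap.ker x := by
      rw [hx.ker, ← hw.ker]; exact h1
    exact Subtype.ext ((hfix _ v.2).symm.trans h2)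
  have hinj : ∀ w ∈ C0, ∀ w' ∈ C0, φ w = φ w' → w = w' := fun w hw w' hw' e => by
    by_contra hne
    have := hunit _ (C0.sub_mem hw hw') (sub_ne_zero.2 hne)
    rw [map_sub, e, sub_self] at this
    exact not_isUnit_zero this
  have htri : ∀ w ∈ C0, ∀ w' ∈ C0, w * (z * w' * z) * w ∈ C0 := by
    rintro w (rfl | hw) w' hw'
    · exact Or.inl (by simp)
    rcases hw' with rfl | hw'
    · exact Or.inl (by simp)
    obtain ⟨-, c1⟩ := hxw w' hw'
    exact Or.inr (hyq ⟨w, hw⟩ _ c1).2
  have hF : Sandwich (C0.map φ) := by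
    refine ⟨(Set.toFinite (C0 : Set (Module.End k M))).image φ, ⟨x, Or.inr hx, LinearMap.ext fun v => Subtype.ext ?_⟩, fun w hw => ?_, ?_, ?_⟩
    · rw [hval x (Or.inr hx)]; exact hfix _ v.2
    · rw [← two_smul k, smul_eq_zero, or_iff_right (Ring.two_ne_zero hk2)] at hw
      exact hw
    · rintro _ ⟨w, hw, rfl⟩ _ ⟨w', hw', rfl⟩
      refine ⟨_, htri w hw w' hw', LinearMap.ext fun v => Subtype.ext ?_⟩
      show _ = ((φ w (φ w' (φ w v)) : W) : M)
      rw [hval w hw, hval w' hw', hval w hw, hval _ (htri w hw w' hw')]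
      rfl
    · rintro _ ⟨w, hw, rfl⟩ h0
      exact hunit w hw fun e => h0 (by rw [e, map_zero])
  have hsq : ∀ y : {u // SameClass X a u}, y.1 * z * y.1 ∈ C0 ∧ φ (y.1 * z * y.1) = φ y.1 * φ y.1 := by
    intro y
    have h1 : y.1 * z * y.1 ∈ C0 := Or.inr (hyq y z hz).2
    refine ⟨h1, LinearMap.ext fun v => Subtype.ext ?_⟩
    rw [hval _ h1, Module.End.mul_apply (φ y.1), hval _ (Or.inr y.2), hval _ (Or.inr y.2)]
    rfl
  let f : {u // SameClass X a u} → {u // SameClass X a u ∧ ∃ g ∈ torusSub X a b, cj g x = u} :=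
    fun y => ⟨y.1 * z * y.1, (hyq y z hz).2, _, (hg y).1, (hg y).2⟩
  haveI := Fintype.ofFinite {u // SameClass X a u}
  haveI := Fintype.ofFinite {u // SameClass X a u ∧ ∃ g ∈ torusSub X a b, cj g x = u}
  rw [Nat.card_eq_fintype_card, Nat.card_eq_fintype_card, ← Finset.card_univ, ← Finset.card_univ]
  refine le_trans (Finset.card_le_mul_card_image (f := f) Finset.univ 2 fun w hw => ?_)
    (Nat.mul_le_mul_left _ (Finset.card_le_card (Finset.subset_univ _)))
  obtain ⟨y, -, rfl⟩ := Finset.mem_image.1 hw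
  refine le_trans (Finset.card_le_card (t := {y, ⟨-y.1, class_neg y.2⟩}) fun w hw => ?_) Finset.card_le_two
  rw [Finset.mem_filter] at hw
  have e : φ y.1 * φ y.1 = φ w.1 * φ w.1 := by
    rw [← (hsq y).2, ← (hsq w).2, show w.1 * z * w.1 = y.1 * z * y.1 from congrArg Subtype.val hw.2]
  rw [Finset.mem_insert, Finset.mem_singleton]
  rcases sq_eq_sq hF ⟨_, Or.inr y.2, rfl⟩ ⟨_, Or.inr w.2, rfl⟩ e with h | h
  · exact Or.inl (Subtype.ext (hinj _ (Or.inr w.2) _ (Or.inr y.2) h))
  · rw [← map_neg] at h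
    exact Or.inr (Subtype.ext (hinj _ (Or.inr w.2) _ (Or.inr (class_neg y.2)) h))

end Cfsg.Agent.CoprimeZJ
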