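import Cfsg.Agent.Lib.CoprimeZJ.Diag
import Cfsg.Agent.Lib.Coprime.Action
import Cfsg.Agent.Lib.Cores.Basic

/-!
A quadratic element on an irreducible section, with coprime operators.
* `fixSub A G`, `Inv A H`
* `false_of_quadratic` : the linear statement
* `mem_of_quadratic` : on an `A`-chief factor `P / N` a quadratic element is trivial
-/

set_option autoImplicit false
set_option linter.unusedSectionVars false
set_option linter.style.haveILetI false

namespace Cfsg.Agent.CoprimeZJ

open Cfsg Module Cfsg.Agent.QuadRoot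
open scoped MatrixGroups Pointwise commutatorElement

universe u v w z

section Linear

variable {p : ℕ} [hp : Fact p.Prime] {M : Type v} [AddCommGroup M] [Module (ZMod p) M] [Finite M]
  [FiniteDimensional (ZMod p) M] {X B : Subgroup (LinearMap.GeneralLinearGroup (ZMod p) M)}

theorem isPGroup_of_unipotent {U : Subgroup (LinearMap.GeneralLinearGroup (ZMod p) M)} (h : IsUnipotentOn U) :
    IsPGroup p U := by
  rcases subsingleton_or_nontrivial (Module.End (ZMod p) M) with hM | hM
  · exact fun g => ⟨0, Subtype.ext (Units.ext (Subsingleton.elim _ _))⟩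
  haveI : CharP (Module.End (ZMod p) M) p :=
    charP_of_injective_algebraMap (algebraMap (ZMod p) (Module.End (ZMod p) M)).injective p
  obtain ⟨n, hn⟩ := h
  rintro ⟨g, hg⟩
  have h1 := hn (List.replicate n g) (fun x hx => List.eq_of_mem_replicate hx ▸ hg) List.length_replicate
  simp only [List.pure_def, List.bind_eq_flatMap, List.flatMap_replicate, List.flatten_replicate_singleton, List.map_replicate, List.prod_replicate] at h1
  refine ⟨n, Subtype.ext (Units.ext ?_)⟩
  have h2 := sub_pow_char_pow_of_commute (R := Module.End (ZMod p) M) (p := p) (n := n)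
    (Commute.one_right (g : Module.End (ZMod p) M))
  rw [one_pow] at h2
  rw [Subgroup.coe_pow, Subgroup.coe_one, Units.val_pow_eq_pow_val, Units.val_one]
  exact sub_eq_zero.1 (h2.symm.trans (pow_eq_zero_of_le (Nat.lt_pow_self hp.out.one_lt).le h1))

theorem reduced_of_irreducible_normalizer (hBX : B ≤ Subgroup.normalizer (X : Set _))
    (hirr : ∀ W : Submodule (ZMod p) M, (∀ g ∈ X, W.map (g : Module.End (ZMod p) M) ≤ W) →
      (∀ g ∈ B, W.map (g : Module.End (ZMod p) M) ≤ W) → W = ⊥ ∨ W = ⊤) : Reduced X := by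
  classical
  set O := (Cfsg.pCore p X).map X.subtype
  suffices hO : O = ⊥ by
    intro U hU hun hnor
    refine le_bot_iff.1 (hO ▸ fun u hu => ?_)
    have hn : (U.subgroupOf X).Normal := ⟨fun x hx g => by
      rw [Subgroup.mem_subgroupOf] at hx ⊢
      rw [Subgroup.coe_mul, Subgroup.coe_mul, Subgroup.coe_inv, ← hnor _ g.2]
      exact RankOne.conj_mem_conjBy _ hx⟩
    exact ⟨⟨u, hU hu⟩, Cores.le_pCore hn ((isPGroup_of_unipotent hun).comap_of_injective _ X.subtype_injective)
      (Subgroup.mem_subgroupOf.2 hu), rfl⟩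
  let W : Submodule (ZMod p) M :=
    { carrier := {m | ∀ g ∈ O, (g : Module.End (ZMod p) M) m = m}
      add_mem' := fun {x y} hx hy g hg => by rw [map_add, hx g hg, hy g hg]
      zero_mem' := fun g _ => map_zero _
      smul_mem' := fun c x hx g hg => by rw [map_smul, hx g hg] }
  have hW : ∀ h ∈ Subgroup.normalizer (X : Set (LinearMap.GeneralLinearGroup (ZMod p) M)),
      W.map (h : Module.End (ZMod p) M) ≤ W := by
    intro h hh
    rintro _ ⟨m, hm, rfl⟩ g hg
    have hhO := Cores.normalizer_le_normalizer_map (Cfsg.pCore p X) hh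
    have h1 := hm _ ((Subgroup.mem_normalizer_iff.1 (inv_mem hhO) g).1 hg)
    rw [inv_inv] at h1
    conv_rhs => rw [← h1]
    rw [← Module.End.mul_apply, ← Module.End.mul_apply, ← Units.val_mul, ← Units.val_mul]
    congr 2
    group
  rcases subsingleton_or_nontrivial M with hM | hM
  · exact (Subgroup.eq_bot_iff_forall _).2 fun g _ => Units.ext (LinearMap.ext fun v => Subsingleton.elim _ _)
  rcases hirr W (fun g hg => hW g (Subgroup.le_normalizer hg)) (fun g hg => hW g (hBX hg)) with h | h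
  · exfalso
    have hOp : IsPGroup p O := (Cores.isPGroup_pCore p X).map _
    obtain ⟨x, hx⟩ := exists_ne (0 : M)
    have hcard : p ∣ Nat.card M := by
      have hz : p • x = 0 := by rw [← Nat.cast_smul_eq_nsmul (ZMod p), ZMod.natCast_self, zero_smul]
      rw [← addOrderOf_eq_prime hz hx]
      exact addOrderOf_dvd_natCard x
    obtain ⟨b, hb, hne⟩ := hOp.exists_fixed_point_of_prime_dvd_card_of_fixed_point M hcard (a := (0 : M))
      (fun g => smul_zero g)
    have hbW : b ∈ W := fun g hg => hb ⟨g, hg⟩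
    rw [h, Submodule.mem_bot] at hbW
    exact hne hbW.symm
  · exact (Subgroup.eq_bot_iff_forall _).2 fun g hg => Units.ext (LinearMap.ext fun v =>
      (h.ge (Submodule.mem_top (x := v))) g hg)

theorem exists_inG_of_sq {g : LinearMap.GeneralLinearGroup (ZMod p) M} (hg : g ∈ X) (hg1 : g ≠ 1)
    (hsq : ((g : Module.End (ZMod p) M) - 1) * ((g : Module.End (ZMod p) M) - 1) = 0) :
    ∃ c, InG X c ∧ c ≠ 0 := by
  set x := (g : Module.End (ZMod p) M) - 1
  have hex : ex x = g := Units.ext (by rw [coe_ex hsq]; exact add_sub_cancel _ _)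
  have hpow : ∀ n : ℕ, ex ((n : ZMod p) • x) = g ^ n := by
    intro n
    induction n with
    | zero => rw [Nat.cast_zero, zero_smul, ex_zero, pow_zero]
    | succ n ih => rw [pow_succ, ← ih, ← hex, Nat.cast_succ, ex_add_smul hsq, one_smul]
  refine ⟨x, ⟨hsq, fun c => ?_⟩, fun e => hg1 (by rw [← hex, e, ex_zero])⟩
  rw [← ZMod.natCast_zmod_val c, hpow]
  exact pow_mem hg _

theorem involves_of_quadratic (hp5 : 5 ≤ p) {g : LinearMap.GeneralLinearGroup (ZMod p) M} (hg : g ∈ X)
    (hg1 : g ≠ 1) (hsq : ((g : Module.End (ZMod p) M) - 1) * ((g : Module.End (ZMod p) M) - 1) = 0)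
    (hBX : B ≤ Subgroup.normalizer (X : Set _)) (hcop : (Nat.card B).Coprime (Nat.card X))
    (hirr : ∀ W : Submodule (ZMod p) M, (∀ g ∈ X, W.map (g : Module.End (ZMod p) M) ≤ W) →
      (∀ g ∈ B, W.map (g : Module.End (ZMod p) M) ≤ W) → W = ⊥ ∨ W = ⊤)
    {Fld : Type w} [Field Fld] (e : ZMod p ≃+* Fld) :
    Cfsg.Involves (Matrix.ProjectiveSpecialLinearGroup (Fin 2) Fld)
      ↥(X ⊓ Subgroup.centralizer (B : Set (LinearMap.GeneralLinearGroup (ZMod p) M))) :=
  involves_centralizer hp5 (by rw [ZMod.ringChar_zmod_n]; omega) (by rw [Nat.card_zmod]; omega)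
    (reduced_of_irreducible_normalizer hBX hirr) (exists_inG_of_sq hg hg1 hsq) hBX hcop e

end Linear

section Group

variable (A : Type z) [Group A] (G : Type u) [Group G] [MulDistribMulAction A G]

/-- The fixed points of `A`. -/
def fixSub : Subgroup G where
  carrier := {g | ∀ a : A, a • g = g}
  one_mem' a := smul_one a
  mul_mem' hx hy a := by rw [smul_mul', hx a, hy a]
  inv_mem' hx a := by rw [smul_inv', hx a]

variable {G}

/-- Invariance under `A`. -/
def Inv (H : Subgroup G) : Prop := ∀ (a : A), ∀ x ∈ H, a • x ∈ H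

variable {A} [Finite A] [Finite G] {p : ℕ} [hp : Fact p.Prime] {P N : Subgroup G}

/-- On an `A`-chief factor a quadratic element acts trivially, unless `PSL₂(p)` is involved in the fixed points. -/
theorem mem_of_quadratic (hp5 : 5 ≤ p) [P.Normal] [N.Normal] (hNP : N ≤ P) (hne : N ≠ P) (hPi : Inv A P)
    (hNi : Inv A N) (hPp : IsPGroup p P)
    (hmin : ∀ K : Subgroup G, K.Normal → Inv A K → N ≤ K → K ≤ P → K = N ∨ K = P)
    (hcop : (Nat.card A).Coprime (Nat.card G)) {Fld : Type w} [Field Fld] (e : ZMod p ≃+* Fld)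
    (hfix : ¬ Cfsg.Involves (Matrix.ProjectiveSpecialLinearGroup (Fin 2) Fld) (fixSub A G))
    {g : G} (hq : ∀ x ∈ P, ⁅g, ⁅g, x⁆⁆ ∈ N) : ∀ x ∈ P, ⁅g, x⁆ ∈ N := by
  classical
  set π := QuotientGroup.mk' N
  set V := P.map π with hV
  haveI hVn : V.Normal := Subgroup.Normal.map inferInstance π (QuotientGroup.mk'_surjective N)
  -- elementary abelian
  have hcomm : ∀ x ∈ P, ∀ y ∈ P, ⁅x, y⁆ ∈ N := by
    intro x hx y hy
    have hi : Inv A (N ⊔ ⁅P, P⁆) := by
      intro a z hz
      have h : (N ⊔ ⁅P, P⁆).map (MulDistribMulAction.toMonoidHom G a) ≤ N ⊔ ⁅P, P⁆ := by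
        rw [Subgroup.map_sup, Subgroup.map_commutator]
        exact sup_le_sup (fun _ ⟨w, hw, hw'⟩ => hw' ▸ hNi a w hw)
          (Subgroup.commutator_mono (fun _ ⟨w, hw, hw'⟩ => hw' ▸ hPi a w hw) fun _ ⟨w, hw, hw'⟩ => hw' ▸ hPi a w hw)
      exact h ⟨z, hz, rfl⟩
    rcases hmin _ inferInstance hi le_sup_left (sup_le hNP (Subgroup.commutator_le_self P)) with h | h
    · exact h ▸ Subgroup.mem_sup_right (Subgroup.commutator_mem_commutator hx hy)
    · exfalso
      have hVV : ⁅V, V⁆ = V := by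
        refine le_antisymm (Subgroup.commutator_le_self V) ?_
        conv_lhs => rw [hV, ← h, Subgroup.map_sup, Subgroup.map_commutator,
          show N.map π = ⊥ from (Subgroup.map_eq_bot_iff N).2 (QuotientGroup.ker_mk' N).ge, bot_sup_eq]
      haveI : Group.IsNilpotent V := (hPp.map π).isNilpotent
      obtain ⟨n, hn⟩ := (Subgroup.isNilpotent_iff_lowerCentralSeries V).1 inferInstance
      have hall : ∀ k, V.lowerCentralSeries k = V := fun k => by
        induction k with
        | zero => rfl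
        | succ k ih => rw [Subgroup.lowerCentralSeries_succ, ih]; exact hVV
      have hbot := (hall n).symm.trans hn
      rw [hV, Subgroup.map_eq_bot_iff, QuotientGroup.ker_mk'] at hbot
      exact hne (le_antisymm hNP hbot)
  have hpow : ∀ x ∈ P, x ^ p ∈ N := by
    have hc : ∀ x ∈ P, ∀ y ∈ P, π (x * y) ^ p = π x ^ p * π y ^ p := fun x hx y hy => by
      rw [map_mul]
      refine Commute.mul_pow ?_ p
      rw [← commutatorElement_eq_one_iff_commute, ← map_commutatorElement]
      exact (QuotientGroup.eq_one_iff _).2 (hcomm x hx y hy)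
    let K : Subgroup G :=
      { carrier := {x | x ∈ P ∧ π x ^ p = 1}
        one_mem' := ⟨one_mem P, by simp⟩
        mul_mem' := fun {x y} (hx : _ ∧ _) (hy : _ ∧ _) =>
          ⟨mul_mem hx.1 hy.1, by rw [hc x hx.1 y hy.1, hx.2, hy.2, one_mul]⟩
        inv_mem' := fun {x} (hx : _ ∧ _) => ⟨inv_mem hx.1, by rw [map_inv, inv_pow, hx.2, inv_one]⟩ }
    have hK : ∀ x, x ∈ K ↔ x ∈ P ∧ x ^ p ∈ N := fun x => by
      rw [← QuotientGroup.eq_one_iff (N := N) (x ^ p)]; exact Iff.rfl
    have hKn : K.Normal := ⟨fun x hx y => (hK _).2 ⟨Subgroup.Normal.conj_mem inferInstance x ((hK x).1 hx).1 y, by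
      rw [conj_pow]; exact Subgroup.Normal.conj_mem inferInstance _ ((hK x).1 hx).2 y⟩⟩
    have hKi : Inv A K := fun a x hx => (hK _).2 ⟨hPi a x ((hK x).1 hx).1, by
      rw [← smul_pow']; exact hNi a _ ((hK x).1 hx).2⟩
    rcases hmin K hKn hKi (fun x hx => (hK x).2 ⟨hNP hx, pow_mem hx p⟩) (fun x hx => ((hK x).1 hx).1) with h | h
    · exfalso
      obtain ⟨n, hn⟩ := IsPGroup.iff_card.1 (hPp.map π)
      rcases Nat.eq_zero_or_pos n with rfl | hn0
      · rw [pow_zero, Subgroup.card_eq_one, Subgroup.map_eq_bot_iff, QuotientGroup.ker_mk'] at hn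
        exact hne (le_antisymm hNP hn)
      obtain ⟨⟨v, hv⟩, hvo⟩ := exists_prime_orderOf_dvd_card' (G := V) p
        (hn ▸ dvd_pow_self p hn0.ne')
      obtain ⟨x, hx, rfl⟩ := hv
      have hxK : x ∈ K := ⟨hx, by
        have := pow_orderOf_eq_one (⟨π x, Subgroup.mem_map_of_mem π hx⟩ : V)
        rw [hvo] at this
        exact congrArg Subtype.val this⟩
      rw [h] at hxK
      have h1 : π x = 1 := (QuotientGroup.eq_one_iff x).2 hxK
      have h2 : orderOf (⟨π x, Subgroup.mem_map_of_mem π hx⟩ : V) = 1 :=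
        orderOf_eq_one_iff.2 (Subtype.ext h1)
      rw [h2] at hvo
      exact hp.out.ne_one hvo.symm
    · exact fun x hx => ((hK x).1 (h.symm ▸ hx)).2
  -- the module
  letI : CommGroup V :=
    { (inferInstance : Group V) with
      mul_comm := by
        rintro ⟨_, x, hx, rfl⟩ ⟨_, y, hy, rfl⟩
        refine Subtype.ext ((commutatorElement_eq_one_iff_commute.1 ?_).eq)
        rw [← map_commutatorElement]
        exact (QuotientGroup.eq_one_iff _).2 (hcomm x hx y hy) }
  have hexp : ∀ v : Additive V, p • v = 0 := by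
    intro v
    induction v using Additive.rec with
    | _ v =>
      obtain ⟨_, x, hx, rfl⟩ := v
      rw [← ofMul_pow, ← ofMul_one]
      congr 1
      refine Subtype.ext ?_
      rw [Subgroup.coe_pow, ← map_pow]
      exact (QuotientGroup.eq_one_iff _).2 (hpow x hx)
  letI : Module (ZMod p) (Additive V) := AddCommGroup.zmodModule (n := p) hexp
  haveI : Finite (Additive V) := inferInstanceAs (Finite V)
  haveI : FiniteDimensional (ZMod p) (Additive V) := Module.Finite.of_finite
  let el : ∀ x ∈ P, Additive V := fun x hx => Additive.ofMul ⟨π x, Subgroup.mem_map_of_mem π hx⟩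
  have hel : ∀ v : Additive V, ∃ x, ∃ hx : x ∈ P, v = el x hx := fun v => by
    obtain ⟨x, hx, hxv⟩ := (Additive.toMul v).2
    exact ⟨x, hx, Subtype.ext hxv.symm⟩
  have el_eq : ∀ {x y : G} (hx : x ∈ P) (hy : y ∈ P), π x = π y → el x hx = el y hy :=
    fun hx hy e => Subtype.ext e
  let mkEnd : (G ⧸ N →* G ⧸ N) → Module.End (ZMod p) (Additive V) := fun f =>
    if h : ∀ v ∈ V, f v ∈ V then
      (MonoidHom.toAdditive ((f.comp V.subtype).codRestrict V fun v => h v v.2)).toZModLinearMap p
    else 0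
  have mkEnd_el : ∀ (f : G ⧸ N →* G ⧸ N) (φ : G → G) (hφ : ∀ x ∈ P, φ x ∈ P),
      (∀ x, f (π x) = π (φ x)) → ∀ x hx, mkEnd f (el x hx) = el (φ x) (hφ x hx) := by
    intro f φ hφ hf x hx
    have h : ∀ v ∈ V, f v ∈ V := by
      rintro _ ⟨w, hw, rfl⟩
      rw [hf]; exact Subgroup.mem_map_of_mem π (hφ w hw)
    simp only [mkEnd, dif_pos h]
    exact Subtype.ext (hf x)
  let ρ₀ : G →* Module.End (ZMod p) (Additive V) :=
    { toFun := fun h => mkEnd (MulAut.conj (π h)).toMonoidHom
      map_one' := LinearMap.ext fun v => by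
        obtain ⟨x, hx, rfl⟩ := hel v
        rw [mkEnd_el _ id (fun _ h => h) (fun y => by simp) x hx]
        rfl
      map_mul' := fun h h' => LinearMap.ext fun v => by
        obtain ⟨x, hx, rfl⟩ := hel v
        have hc : ∀ (h : G), ∀ y ∈ P, h * y * h⁻¹ ∈ P := fun h y hy => Subgroup.Normal.conj_mem inferInstance y hy h
        have hf : ∀ (h y : G), (MulAut.conj (π h)).toMonoidHom (π y) = π (h * y * h⁻¹) := fun h y => by simp
        rw [Module.End.mul_apply, mkEnd_el _ _ (hc (h * h')) (hf _) x hx, mkEnd_el _ _ (hc h') (hf _) x hx,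
          mkEnd_el _ _ (hc h) (hf _) _ (hc h' x hx)]
        refine Subtype.ext (congrArg π ?_)
        group }
  have hρ : ∀ (h x : G) (hx : x ∈ P),
      ρ₀ h (el x hx) = el (h * x * h⁻¹) (Subgroup.Normal.conj_mem inferInstance x hx h) := fun h x hx =>
    mkEnd_el _ (fun y => h * y * h⁻¹) (fun y hy => Subgroup.Normal.conj_mem inferInstance y hy h)
      (fun y => by simp) x hx
  have hNc : ∀ a : A, N ≤ N.comap (MulDistribMulAction.toMonoidHom G a) := fun a x hx => hNi a x hx
  let T₀ : A →* Module.End (ZMod p) (Additive V) :=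
    { toFun := fun a => mkEnd (QuotientGroup.map N N (MulDistribMulAction.toMonoidHom G a) (hNc a))
      map_one' := LinearMap.ext fun v => by
        obtain ⟨x, hx, rfl⟩ := hel v
        rw [mkEnd_el _ (fun y => (1 : A) • y) (hPi 1) (fun y => rfl) x hx]
        exact Subtype.ext (congrArg π (one_smul A x))
      map_mul' := fun a b => LinearMap.ext fun v => by
        obtain ⟨x, hx, rfl⟩ := hel v
        rw [Module.End.mul_apply, mkEnd_el _ (fun y => (a * b) • y) (hPi _) (fun y => rfl) x hx,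
          mkEnd_el _ (fun y => b • y) (hPi _) (fun y => rfl) x hx,
          mkEnd_el _ (fun y => a • y) (hPi _) (fun y => rfl) _ (hPi b x hx)]
        exact Subtype.ext (congrArg π (mul_smul a b x)) }
  have hT : ∀ (a : A) (x : G) (hx : x ∈ P), T₀ a (el x hx) = el (a • x) (hPi a x hx) := fun a x hx =>
    mkEnd_el _ (fun y => a • y) (hPi a) (fun y => rfl) x hx
  let ρ := ρ₀.toHomUnits
  let T := T₀.toHomUnits
  have hrel : ∀ (a : A) (h : G), T a * ρ h = ρ (a • h) * T a := fun a h => Units.ext (LinearMap.ext fun v => by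
    obtain ⟨x, hx, rfl⟩ := hel v
    show T₀ a (ρ₀ h (el x hx)) = ρ₀ (a • h) (T₀ a (el x hx))
    rw [hρ h x hx, hT a _ (Subgroup.Normal.conj_mem inferInstance x hx h), hT a x hx, hρ _ _ (hPi a x hx)]
    refine Subtype.ext (congrArg π ?_)
    rw [smul_mul', smul_mul', smul_inv'])
  have hBX : T.range ≤ Subgroup.normalizer (ρ.range : Set (LinearMap.GeneralLinearGroup (ZMod p) (Additive V))) := by
    rintro _ ⟨a, rfl⟩
    refine Coprime.mem_normalizer_of_forall ?_
    rintro _ ⟨h, rfl⟩
    exact ⟨a • h, (eq_mul_inv_of_mul_eq (hrel a h).symm)⟩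
  intro x hx
  by_contra hgx
  have hg1 : ρ g ≠ 1 := fun e1 => hgx (by
    have h1 : ρ₀ g (el x hx) = el x hx := LinearMap.congr_fun (congrArg Units.val e1) _
    rw [hρ g x hx] at h1
    have h2 : π (g * x * g⁻¹) = π x := congrArg (fun v : Additive V => ((Additive.toMul v : V) : G ⧸ N)) h1
    rw [commutatorElement_def, ← QuotientGroup.eq_one_iff]
    show π (g * x * g⁻¹ * x⁻¹) = 1
    rw [map_mul, h2, map_inv, mul_inv_cancel])
  have hsq : ((ρ g : Module.End (ZMod p) (Additive V)) - 1) * ((ρ g : Module.End (ZMod p) (Additive V)) - 1) = 0 := by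
    refine LinearMap.ext fun v => ?_
    obtain ⟨y, hy, rfl⟩ := hel v
    have hsub : ∀ (y : G) (hy : y ∈ P), ((ρ g : Module.End (ZMod p) (Additive V)) - 1) (el y hy) =
        el ⁅g, y⁆ (mul_mem (Subgroup.Normal.conj_mem inferInstance y hy g) (inv_mem hy)) := fun y hy => by
      rw [LinearMap.sub_apply, Module.End.one_apply]
      show ρ₀ g (el y hy) - el y hy = _
      rw [hρ g y hy, sub_eq_iff_eq_add]
      refine Subtype.ext ?_
      show π (g * y * g⁻¹) = π ⁅g, y⁆ * π y
      rw [← map_mul, commutatorElement_def, inv_mul_cancel_right]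
    rw [Module.End.mul_apply, hsub y hy]
    refine (hsub _ (mul_mem (Subgroup.Normal.conj_mem inferInstance y hy g) (inv_mem hy))).trans ?_
    exact Subtype.ext ((QuotientGroup.eq_one_iff _).2 (hq y hy))
  refine hfix ?_
  have hc : (Nat.card T.range).Coprime (Nat.card ρ.range) :=
    (hcop.coprime_dvd_left (Subgroup.card_range_dvd T)).coprime_dvd_right (Subgroup.card_range_dvd ρ)
  have hinv := involves_of_quadratic hp5 (X := ρ.range) (B := T.range) ⟨g, rfl⟩ hg1 hsq hBX hc ?_ e
  · let F : fixSub A G →* ↥(ρ.range ⊓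
        Subgroup.centralizer (T.range : Set (LinearMap.GeneralLinearGroup (ZMod p) (Additive V)))) :=
      (ρ.comp (fixSub A G).subtype).codRestrict _ fun c => ⟨⟨c, rfl⟩, Subgroup.mem_centralizer_iff.2 (by
        rintro _ ⟨a, rfl⟩
        have := hrel a c
        rw [c.2 a] at this
        exact this)⟩
    refine Involves.involves_of_surjective F ?_ hinv
    rintro ⟨y, ⟨h, rfl⟩, hy⟩
    have hsolv : Group.IsSolvable A ∨ Group.IsSolvable G := by
      rcases Nat.even_or_odd (Nat.card G) with he | ho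
      · exact Or.inl (OddOrderTheorem.solvable
          (Nat.coprime_two_right.1 (hcop.coprime_dvd_right he.two_dvd)))
      · exact Or.inr (OddOrderTheorem.solvable ho)
    have hfixρ : ∀ (a : A), ρ (a • h) = ρ h := fun a => by
      have h1 := Subgroup.mem_centralizer_iff.1 hy (T a) ⟨a, rfl⟩
      rw [hrel a h] at h1
      exact mul_right_cancel h1
    obtain ⟨c, hc, hch⟩ := Coprime.exists_smul_fixed_of_coset hcop hsolv (N := ρ.ker) (fun a z hz => by
        have h1 := hrel a z
        rw [MonoidHom.mem_ker.1 hz, mul_one, eq_comm, mul_eq_right] at h1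
        exact h1) (g := h) fun a => by
      rw [MonoidHom.mem_ker, map_mul, map_inv, hfixρ, mul_inv_cancel]
    rw [MonoidHom.mem_ker, map_mul, map_inv, mul_inv_eq_one] at hch
    exact ⟨⟨c, hc⟩, Subtype.ext hch⟩
  · intro W hWX hWB
    let K : Subgroup G :=
      { carrier := {x | ∃ hx : x ∈ P, el x hx ∈ W}
        one_mem' := ⟨one_mem P, by rw [show el 1 (one_mem P) = 0 from Subtype.ext (map_one π)]; exact W.zero_mem⟩
        mul_mem' := fun {x y} ⟨hx, hx'⟩ ⟨hy, hy'⟩ => ⟨mul_mem hx hy, by
          rw [show el (x * y) (mul_mem hx hy) = el x hx + el y hy from Subtype.ext (map_mul π x y)]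
          exact W.add_mem hx' hy'⟩
        inv_mem' := fun {x} ⟨hx, hx'⟩ => ⟨inv_mem hx, by
          rw [show el x⁻¹ (inv_mem hx) = -el x hx from Subtype.ext (map_inv π x)]
          exact W.neg_mem hx'⟩ }
    have hKn : K.Normal := ⟨fun y ⟨hy, hy'⟩ h => ⟨Subgroup.Normal.conj_mem inferInstance y hy h, by
      have := hWX (ρ h) ⟨h, rfl⟩ (Submodule.mem_map_of_mem hy')
      rwa [show (ρ h : Module.End (ZMod p) (Additive V)) = ρ₀ h from rfl, hρ h y hy] at this⟩⟩
    have hKi : Inv A K := fun a y ⟨hy, hy'⟩ => ⟨hPi a y hy, by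
      have := hWB (T a) ⟨a, rfl⟩ (Submodule.mem_map_of_mem hy')
      rwa [show (T a : Module.End (ZMod p) (Additive V)) = T₀ a from rfl, hT a y hy] at this⟩
    rcases hmin K hKn hKi (fun y hy => ⟨hNP hy, by
      rw [show el y (hNP hy) = 0 from Subtype.ext ((QuotientGroup.eq_one_iff y).2 hy)]; exact W.zero_mem⟩)
      (fun y hy => hy.1) with h | h
    · refine Or.inl ((Submodule.eq_bot_iff _).2 fun v hv => ?_)
      obtain ⟨y, hy, rfl⟩ := hel v
      have : y ∈ N := h ▸ (⟨hy, hv⟩ : y ∈ K)
      exact Subtype.ext ((QuotientGroup.eq_one_iff y).2 this)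
    · refine Or.inr (eq_top_iff.2 fun v _ => ?_)
      obtain ⟨y, hy, rfl⟩ := hel v
      exact (h.ge hy).2

end Group

end Cfsg.Agent.CoprimeZJ
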