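import Cfsg.Agent.Lib.CoprimeZJ.Section

/-!
* `stableOn` : `IsPStableOn p P` for the invariant normal `p`-subgroups when the fixed points do not
  involve `PSL₂(p)`
-/

set_option autoImplicit false
set_option linter.unusedSectionVars false

namespace Cfsg.Agent.CoprimeZJ

open scoped MatrixGroups commutatorElement

universe u w z

variable {A : Type z} [Group A] [Finite A] {G : Type u} [Group G] [Finite G] [MulDistribMulAction A G]
  {p : ℕ} [hp : Fact p.Prime]

theorem stableOn (hp5 : 5 ≤ p) (hcop : (Nat.card A).Coprime (Nat.card G)) {Fld : Type w} [Field Fld]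
    (e : ZMod p ≃+* Fld)
    (hfix : ¬ Cfsg.Involves (Matrix.ProjectiveSpecialLinearGroup (Fin 2) Fld) (fixSub A G))
    (P : Subgroup G) [hPn : P.Normal] (hPp : IsPGroup p P) (hPi : Inv A P) : Cfsg.IsPStableOn p P := by
  classical
  revert hPn hPp hPi
  induction P using WellFoundedLT.induction with
  | ind P IH =>
  intro _ hPp hPi g hg
  rcases eq_or_ne P ⊥ with rfl | hne
  · have h : (QuotientGroup.mk g : G ⧸ Subgroup.centralizer ((⊥ : Subgroup G) : Set G)) = 1 :=
      (QuotientGroup.eq_one_iff g).2 (Subgroup.mem_centralizer_iff.2 fun x hx => by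
        rw [Subgroup.coe_bot, Set.mem_singleton_iff] at hx
        rw [hx, one_mul, mul_one])
    rw [h]; exact one_mem _
  obtain ⟨N, ⟨hNn, hNi, hNlt⟩, hmax⟩ := Set.exists_max_image {K : Subgroup G | K.Normal ∧ Inv A K ∧ K < P}
    (fun K : Subgroup G => Nat.card K) (Set.toFinite _)
    ⟨⊥, inferInstance, fun a x hx => by rw [Subgroup.mem_bot] at hx ⊢; rw [hx, smul_one], bot_lt_iff_ne_bot.2 hne⟩
  haveI := hNn
  have hmin : ∀ K : Subgroup G, K.Normal → Inv A K → N ≤ K → K ≤ P → K = N ∨ K = P := by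
    intro K hKn hKi h1 h2
    rcases h2.lt_or_eq with h | h
    · exact Or.inl (Subgroup.eq_of_le_of_card_ge h1 (hmax K ⟨hKn, hKi, h⟩)).symm
    · exact Or.inr h
  have hmem : ∀ {K : Subgroup G} {x}, x ∈ K → ⁅g, ⁅g, x⁆⁆ ∈ ⁅⁅K, Subgroup.zpowers g⁆, Subgroup.zpowers g⁆ := by
    intro K x hx
    have hz := Subgroup.mem_zpowers g
    have h1 : ⁅g, x⁆ ∈ ⁅K, Subgroup.zpowers g⁆ := by
      rw [← commutatorElement_inv]; exact inv_mem (Subgroup.commutator_mem_commutator hx hz)
    rw [← commutatorElement_inv]; exact inv_mem (Subgroup.commutator_mem_commutator h1 hz)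
  have hV : ∀ x ∈ P, ⁅g, x⁆ ∈ N := mem_of_quadratic hp5 hNlt.le hNlt.ne hPi hNi hPp hmin hcop e hfix
    fun x hx => by
      have h := hmem hx
      rw [hg, Subgroup.mem_bot] at h
      rw [h]; exact one_mem _
  have hgN : (QuotientGroup.mk g : G ⧸ Subgroup.centralizer (N : Set G)) ∈
      Cfsg.pCore p (G ⧸ Subgroup.centralizer (N : Set G)) :=
    IH N hNlt (hPp.to_le hNlt.le) hNi g (le_bot_iff.1 (hg ▸
      Subgroup.commutator_mono (Subgroup.commutator_mono hNlt.le le_rfl) le_rfl))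
  set DN := (Cfsg.pCore p (G ⧸ Subgroup.centralizer (N : Set G))).comap
    (QuotientGroup.mk' (Subgroup.centralizer (N : Set G))) with hDN
  haveI : DN.Normal := Subgroup.Normal.comap inferInstance _
  let E : Subgroup G :=
    { carrier := {y | ∀ x ∈ P, ⁅y, x⁆ ∈ N}
      one_mem' := fun x _ => by rw [commutatorElement_one_left]; exact one_mem _
      mul_mem' := fun {y z} hy hz x hx => by
        rw [show ⁅y * z, x⁆ = y * ⁅z, x⁆ * y⁻¹ * ⁅y, x⁆ by simp only [commutatorElement_def]; group]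
        exact mul_mem (Subgroup.Normal.conj_mem inferInstance _ (hz x hx) y) (hy x hx)
      inv_mem' := fun {y} hy x hx => by
        rw [show ⁅y⁻¹, x⁆ = y⁻¹ * ⁅y, x⁆⁻¹ * y⁻¹⁻¹ by simp only [commutatorElement_def]; group]
        exact Subgroup.Normal.conj_mem inferInstance _ (inv_mem (hy x hx)) y⁻¹ }
  have hEn : E.Normal := ⟨fun y hy h x hx => by
    rw [show ⁅h * y * h⁻¹, x⁆ = h * ⁅y, h⁻¹ * x * h⁻¹⁻¹⁆ * h⁻¹ by simp only [commutatorElement_def]; group]
    exact Subgroup.Normal.conj_mem inferInstance _ (hy _ (Subgroup.Normal.conj_mem inferInstance x hx h⁻¹)) h⟩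
  set C := Subgroup.centralizer (P : Set G)
  have hp' : IsPGroup p ((DN ⊓ E).map (QuotientGroup.mk' C)) := by
    rintro ⟨_, y, ⟨hy1, hy2⟩, rfl⟩
    obtain ⟨i, hi⟩ := Cores.isPGroup_pCore p (G ⧸ Subgroup.centralizer (N : Set G)) ⟨_, hy1⟩
    have h1 : y ^ (p ^ i) ∈ Subgroup.centralizer (N : Set G) := by
      rw [← QuotientGroup.eq_one_iff]; exact congrArg Subtype.val hi
    obtain ⟨j, hj⟩ := IsPGroup.iff_card.1 (hPp.to_le hNlt.le)
    set h := y ^ (p ^ i)
    have h2 : ∀ (m : ℕ) (x : G), x ∈ P → h ^ m * x * (h ^ m)⁻¹ = ⁅h, x⁆ ^ m * x := by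
      intro m x hx
      induction m with
      | zero => simp
      | succ m ih =>
        have hc : Commute h (⁅h, x⁆ ^ m) :=
          ((Subgroup.mem_centralizer_iff.1 h1 _ (pow_mem (pow_mem hy2 (p ^ i) x hx) m)).symm)
        calc h ^ (m + 1) * x * (h ^ (m + 1))⁻¹ = h * (h ^ m * x * (h ^ m)⁻¹) * h⁻¹ := by group
          _ = h * (⁅h, x⁆ ^ m) * x * h⁻¹ := by rw [ih]; group
          _ = ⁅h, x⁆ ^ m * (h * x * h⁻¹) := by rw [hc.eq]; group
          _ = ⁅h, x⁆ ^ (m + 1) * x := by rw [pow_succ, commutatorElement_def]; group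
    refine ⟨i + j, Subtype.ext ?_⟩
    rw [Subgroup.coe_pow, Subgroup.coe_one, ← map_pow, QuotientGroup.mk'_apply, QuotientGroup.eq_one_iff]
    refine Subgroup.mem_centralizer_iff.2 fun x hx => ?_
    have h3 := h2 (p ^ j) x hx
    have h4 : ⁅h, x⁆ ^ (p ^ j) = 1 := by
      have := pow_card_eq_one' (x := (⟨⁅h, x⁆, pow_mem hy2 (p ^ i) x hx⟩ : N))
      rw [hj] at this
      exact congrArg Subtype.val this
    rw [h4, one_mul, ← pow_mul, ← pow_add, mul_inv_eq_iff_eq_mul] at h3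
    exact h3.symm
  exact Cores.le_pCore (Subgroup.Normal.map inferInstance _ (QuotientGroup.mk'_surjective C)) hp'
    ⟨g, ⟨hgN, hV⟩, rfl⟩

end Cfsg.Agent.CoprimeZJ
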