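import Cfsg.Agent.Lib.CoprimeZJ.Stable
import Cfsg.Agent.Lib.PLocal.Constrained

/-!
The ZJ-theorem in the presence of operators.
* `inv_sInf_maxIn` : `sInf (maxIn abelian S)` is invariant when `S` is
* `zj_normal_inv`
-/

set_option linter.unusedSectionVars false

namespace Cfsg.Agent.CoprimeZJ

open scoped commutatorElement
open Cfsg.Agent.PLocal

variable {G : Type*} [Group G] {A : Type*} [Group A] [MulDistribMulAction A G]

theorem inv_iff_map {H : Subgroup G} :
    Inv A H ↔ ∀ a : A, H.map (MulDistribMulAction.toMonoidHom G a) ≤ H :=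
  ⟨fun h a _ ⟨x, hx, e⟩ => e ▸ h a x hx, fun h a x hx => h a ⟨x, hx, rfl⟩⟩

theorem inv_inf {H K : Subgroup G} (hH : Inv A H) (hK : Inv A K) : Inv A (H ⊓ K) :=
  fun a x hx => ⟨hH a x hx.1, hK a x hx.2⟩

theorem inv_commutator {H K : Subgroup G} (hH : Inv A H) (hK : Inv A K) : Inv A ⁅H, K⁆ :=
  inv_iff_map.2 fun a => by
    rw [Subgroup.map_commutator]
    exact Subgroup.commutator_mono (inv_iff_map.1 hH a) (inv_iff_map.1 hK a)

theorem inv_normalClosure {H : Subgroup G} (hH : Inv A H) : Inv A (Subgroup.normalClosure (H : Set G)) :=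
  inv_iff_map.2 fun a => by
    rw [Subgroup.map_normalClosure _ _ (MulDistribMulAction.toMulEquiv G a).surjective]
    exact Subgroup.normalClosure_mono (Set.image_subset_iff.2 fun x hx => hH a x hx)

theorem inv_pCore (p : ℕ) : Inv A (Cfsg.pCore p G) :=
  inv_iff_map.2 fun a =>
    Cores.map_pCore_le _ (MulDistribMulAction.toMulEquiv G a).surjective p

theorem inv_pPrimeCore (p : ℕ) : Inv A (Cfsg.pPrimeCore p G) :=
  inv_iff_map.2 fun a =>
    Cores.map_pPrimeCore_le _ (MulDistribMulAction.toMulEquiv G a).surjective p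

theorem inv_sInf_maxIn {S : Subgroup G} (hS : Inv A S) : Inv A (sInf (maxIn abelian S)) := by
  intro a x hx
  refine Subgroup.mem_sInf.2 fun B hB => ?_
  have hinj : Function.Injective (MulDistribMulAction.toMonoidHom G a⁻¹) :=
    (MulDistribMulAction.toMulEquiv G a⁻¹).injective
  have hB' : B.map (MulDistribMulAction.toMonoidHom G a⁻¹) ∈ maxIn abelian S := by
    refine ⟨(Subgroup.map_mono hB.1).trans (inv_iff_map.1 hS a⁻¹),
      (abelian_map_iff (H := ⊤) hinj.injOn le_top).2 hB.2.1, fun C hC hQC => ?_⟩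
    rw [Subgroup.card_map_of_injective hinj]
    exact hB.2.2 C hC hQC
  obtain ⟨y, hy, e⟩ := Subgroup.mem_sInf.1 hx _ hB'
  rw [← e]
  show a • a⁻¹ • y ∈ B
  rwa [smul_inv_smul]

/-- Glauberman's ZJ-theorem with operators: stability only for the invariant normal subgroups. -/
theorem zj_normal_inv [Finite G] {p : ℕ} [Fact p.Prime] (hp : p ≠ 2) {Q : Subgroup G → Prop} (hQ : GoodClass Q)
    (hc : Subgroup.centralizer (Cfsg.pCore p G : Set G) ≤ Cfsg.pCore p G)
    (S : Sylow p G) (hSi : Inv A (sInf (maxIn Q (S : Subgroup G))))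
    (hst : ∀ (P : Subgroup G) [P.Normal], IsPGroup p P → Inv A P → Cfsg.IsPStableOn p P) :
    (sInf (maxIn Q (S : Subgroup G))).Normal := by
  set Z := sInf (maxIn Q (S : Subgroup G))
  obtain ⟨A₀, hA₀⟩ := exists_maxIn hQ.bot (S : Subgroup G)
  have hZA : ∀ A ∈ maxIn Q (S : Subgroup G), Z ≤ A := fun A hA => sInf_le hA
  have hAA : ∀ A : Subgroup G, Q A → A ≤ Subgroup.centralizer (A : Set G) := fun A hA =>
    Subgroup.le_centralizer_iff_isMulCommutative.2 (hQ.abel A hA)
  have hZab : Z ≤ Subgroup.centralizer (Z : Set G) :=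
    (hZA _ hA₀).trans ((hAA _ hA₀.2.1).trans (Subgroup.centralizer_le (hZA _ hA₀)))
  have hSZ : (S : Subgroup G) ≤ Subgroup.normalizer (Z : Set G) :=
    Subgroup.le_normalizer.trans (hQ.normalizer_le_normalizer_sInf _)
  have hPS : Cfsg.pCore p G ≤ (S : Subgroup G) := Cores.pCore_le_sylow S
  have hZP : Z ≤ Cfsg.pCore p G := by
    intro a ha
    set P := Cfsg.pCore p G
    have hCp : IsPGroup p ↥(QuotientGroup.mk' (Subgroup.centralizer (P : Set G))).ker := by
      rw [QuotientGroup.ker_mk']; exact (Cores.isPGroup_pCore p G).to_le hc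
    refine Cores.comap_pCore_le _ hCp (hst P (Cores.isPGroup_pCore p G) (inv_pCore p) a (le_bot_iff.1 ?_))
    refine (Subgroup.commutator_mono (Subgroup.commutator_mono le_rfl (Subgroup.zpowers_le.2 ha))
      (Subgroup.zpowers_le.2 ha)).trans ?_
    refine (Subgroup.commutator_mono (?_ : ⁅P, Z⁆ ≤ Z) le_rfl).trans
      (Subgroup.commutator_eq_bot_iff_le_centralizer.2 hZab).le
    exact Subgroup.le_normalizer_iff_commutator_le_right.1 (hPS.trans hSZ)
  suffices main : ∀ B : Subgroup G, B.Normal → IsPGroup p B → Inv A B → (B ⊓ Z).Normal by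
    have := main _ (Cores.pCore_normal p G) (Cores.isPGroup_pCore p G) (inv_pCore p)
    rwa [inf_eq_right.2 hZP] at this
  intro B
  induction B using WellFoundedLT.induction with
  | ind B IH =>
  intro hBn hBp hBi
  have hBS : B ≤ (S : Subgroup G) := (Cores.le_pCore hBn hBp).trans hPS
  set B₁ := Subgroup.normalClosure ((B ⊓ Z : Subgroup G) : Set G)
  haveI : B₁.Normal := Subgroup.normalClosure_normal
  have hB₁ : B₁ ≤ B := Subgroup.normalClosure_le_normal inf_le_left
  rcases hB₁.lt_or_eq with hlt | heq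
  · have := IH B₁ hlt inferInstance (hBp.to_le hB₁) (inv_normalClosure (inv_inf hBi hSi))
    rwa [show B₁ ⊓ Z = B ⊓ Z from le_antisymm (inf_le_inf_right _ hB₁)
      (le_inf Subgroup.le_normalClosure inf_le_right)] at this
  rcases eq_or_ne B ⊥ with hb | hb
  · rw [hb, bot_inf_eq]; infer_instance
  have hgen : ∀ K : Subgroup G, K.Normal → B ⊓ Z ≤ K → B ≤ K := fun K hK hle =>
    heq.ge.trans (Subgroup.normalClosure_le_normal hle)
  -- `[B, B] ≤ Z`
  set B' : Subgroup G := ⁅B, B⁆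
  have hB'lt : B' < B := by
    refine lt_of_le_of_ne (Subgroup.commutator_le_self B) fun e => hb ?_
    haveI : Group.IsNilpotent B := hBp.isNilpotent
    obtain ⟨n, hn⟩ := (Subgroup.isNilpotent_iff_lowerCentralSeries B).1 inferInstance
    have hall : ∀ k, B.lowerCentralSeries k = B := by
      intro k; induction k with
      | zero => rfl
      | succ k ih => rw [Subgroup.lowerCentralSeries_succ, ih]; exact e
    exact (hall n).symm.trans hn
  haveI hM : (B' ⊓ Z).Normal := IH B' hB'lt inferInstance (hBp.to_le hB'lt.le) (inv_commutator hBi hBi)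
  have hB'Z : B' ≤ Z := by
    set M := B' ⊓ Z
    set K := (Subgroup.centralizer ((B.map (QuotientGroup.mk' M) : Subgroup (G ⧸ M)) : Set (G ⧸ M))).comap
      (QuotientGroup.mk' M)
    haveI hKn : K.Normal := by
      haveI := hBn.map (QuotientGroup.mk' M) (QuotientGroup.mk'_surjective M)
      exact Subgroup.Normal.comap inferInstance _
    have hle : B ⊓ Z ≤ K := by
      intro x hx
      refine Subgroup.mem_comap.2 (Subgroup.mem_centralizer_iff.2 ?_)
      rintro _ ⟨y, hy, rfl⟩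
      have hm : ⁅x, y⁆ ∈ M := ⟨Subgroup.commutator_mem_commutator hx.1 hy, by
        have h1 : x * y * x⁻¹ * y⁻¹ = x * (y * x⁻¹ * y⁻¹) := by group
        rw [commutatorElement_def, h1]
        exact Z.mul_mem hx.2 (conj_mem (hSZ (hBS hy)) (Z.inv_mem hx.2))⟩
      have h2 : QuotientGroup.mk' M ⁅x, y⁆ = 1 := (QuotientGroup.eq_one_iff _).2 hm
      rw [map_commutatorElement, commutatorElement_eq_one_iff_commute] at h2
      exact h2.eq.symm
    have hBK := hgen K hKn hle
    refine (Subgroup.commutator_le.2 fun x hx y hy => ?_).trans (inf_le_right : M ≤ Z)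
    have h2 : QuotientGroup.mk' M ⁅x, y⁆ = 1 := by
      rw [map_commutatorElement, commutatorElement_eq_one_iff_commute]
      exact (Subgroup.mem_centralizer_iff.1 (hBK hx) _ ⟨y, hy, rfl⟩).symm
    exact (QuotientGroup.eq_one_iff _).1 h2
  -- the subgroup `L`
  set BZ := B ⊓ Z
  set L := (Subgroup.normalizer (BZ : Set G)).normalCore
  have hLle : L ≤ Subgroup.normalizer (BZ : Set G) := Subgroup.normalCore_le _
  have hSBZ : (S : Subgroup G) ≤ Subgroup.normalizer (BZ : Set G) := fun g hg =>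
    Subgroup.mem_normalizer_iff.2 fun x => and_congr
      (Subgroup.mem_normalizer_iff.1 (Subgroup.le_normalizer_of_normal (H := B) (K := ⊤) (Subgroup.mem_top g)) x)
      (Subgroup.mem_normalizer_iff.1 (hSZ hg) x)
  have hclaim : ∀ A ∈ maxIn Q (S : Subgroup G), B ≤ Subgroup.normalizer (A : Set G) → A ≤ L := by
    intro A hA hBA a ha
    set C := Subgroup.centralizer (B : Set G)
    have hq : ⁅⁅B, Subgroup.zpowers a⁆, Subgroup.zpowers a⁆ = ⊥ := by
      refine le_bot_iff.1 ((Subgroup.commutator_mono (Subgroup.commutator_mono le_rfl (Subgroup.zpowers_le.2 ha))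
        (Subgroup.zpowers_le.2 ha)).trans ?_)
      exact (Subgroup.commutator_mono (Subgroup.le_normalizer_iff_commutator_le_right.1 hBA) le_rfl).trans
        (Subgroup.commutator_eq_bot_iff_le_centralizer.2 (hAA A hA.2.1)).le
    set D := (Cfsg.pCore p (G ⧸ C)).comap (QuotientGroup.mk' C)
    haveI : D.Normal := Subgroup.Normal.comap (Cores.pCore_normal p _) _
    have hDle : D ≤ Subgroup.normalizer (BZ : Set G) := by
      intro d hd
      obtain ⟨s, hs, hsd⟩ :=
        Cores.pCore_le_sylow (S.mapSurjective (QuotientGroup.mk'_surjective C)) hd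
      have hcC : s⁻¹ * d ∈ C := QuotientGroup.eq.1 hsd
      have := Subgroup.mul_mem _ (hSBZ hs)
        (Subgroup.centralizer_le_normalizer _ (Subgroup.centralizer_le (s := (BZ : Set G)) (t := B) inf_le_left hcC))
      simpa using this
    exact (Subgroup.normal_le_normalCore.2 hDle) (hst B hBp hBi a hq)
  set T := (S : Subgroup G) ⊓ L
  obtain ⟨A₁, hA₁, hA₁max⟩ := Set.exists_max_image (maxIn Q (S : Subgroup G))
    (fun A : Subgroup G => Nat.card ↥(A ⊓ B)) (Set.toFinite _) ⟨A₀, hA₀⟩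
  have hder : ∀ A ∈ maxIn Q (S : Subgroup G), B' ≤ A := fun A hA => hB'Z.trans (hZA A hA)
  have hrep : ∀ A ∈ maxIn Q (S : Subgroup G), ¬ B ≤ Subgroup.normalizer (A : Set G) →
      ∃ A' ∈ maxIn Q (S : Subgroup G), A ⊓ B < A' ⊓ B ∧ ¬ B ≤ A' := by
    intro A hA hnot
    obtain ⟨A', hA'S, hab, hcard, hexp, -, hlt, hnB, -⟩ := exists_replacement hp S.isPGroup' hA.1 hBS
      (Subgroup.le_normalizer_of_normal) (hQ.abel A hA.2.1) (hder A hA) hnot
    exact ⟨A', ⟨hA'S, hQ.replace_mem A A' hA.2.1 hab hexp, fun C hC hQC => hcard ▸ hA.2.2 C hC hQC⟩, hlt, hnB⟩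
  have hA₁L : A₁ ≤ L := hclaim A₁ hA₁ (by
    by_contra hnot
    obtain ⟨A', hA', hlt, -⟩ := hrep A₁ hA₁ hnot
    exact hlt.ne (eq_of_le_of_card_le hlt.le (hA₁max A' hA')))
  have hTS : maxIn Q T ⊆ maxIn Q (S : Subgroup G) := maxIn_subset hA₁ (le_inf hA₁.1 hA₁L) inf_le_left
  set Z₁ := sInf (maxIn Q T)
  have hZZ₁ : Z ≤ Z₁ := sInf_le_sInf hTS
  have hBZ₁ : B ≤ Z₁ := by
    let P : Sylow p L := (S.isPGroup'.comap_subtype (K := L)).toSylow fun hd =>
      S.not_dvd_index (hd.trans (Cores.relIndex_dvd_index_of_normal_right _ L))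
    have hP : (P : Subgroup L).map L.subtype = T := Subgroup.subgroupOf_map_subtype _ _
    have hfr := Sylow.normalizer_sup_eq_top P
    rw [hP] at hfr
    refine heq.ge.trans ((Subgroup.closure_le _).2 ?_)
    intro x hx
    obtain ⟨z, hz, hconj⟩ := Group.mem_conjugatesOfSet_iff.1 hx
    obtain ⟨g, rfl⟩ := isConj_iff.1 hconj
    obtain ⟨n, hn, l, hl, rfl⟩ := Subgroup.mem_sup_of_normal_right.1 (hfr.symm ▸ Subgroup.mem_top g)
    have h1 : l * z * l⁻¹ ∈ BZ := conj_mem (hLle hl) hz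
    have h2 := conj_mem (hQ.normalizer_le_normalizer_sInf T hn) (hZZ₁ h1.2)
    have e : n * l * z * (n * l)⁻¹ = n * (l * z * l⁻¹) * n⁻¹ := by group
    rw [SetLike.mem_coe, e]
    exact h2
  by_cases hall : ∀ A ∈ maxIn Q (S : Subgroup G), A ≤ L
  · have hZe : Z₁ ≤ Z :=
      le_sInf fun A hA => sInf_le (maxIn_of_mem_le hA (le_inf hA.1 (hall A hA)) inf_le_left)
    rw [show BZ = B from inf_eq_left.2 (hBZ₁.trans hZe)]
    exact hBn
  · simp only [not_forall] at hall
    obtain ⟨A₂', hA₂', hn₂'⟩ := hall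
    obtain ⟨A₂, ⟨hA₂, hnL⟩, hmax⟩ := Set.exists_max_image {A | A ∈ maxIn Q (S : Subgroup G) ∧ ¬ A ≤ L}
      (fun A : Subgroup G => Nat.card ↥(A ⊓ B)) (Set.toFinite _) ⟨A₂', hA₂', hn₂'⟩
    obtain ⟨A', hA', hlt, hnB⟩ := hrep A₂ hA₂ fun h => hnL (hclaim A₂ hA₂ h)
    have hA'L : A' ≤ L := by
      by_contra h
      exact hlt.ne (eq_of_le_of_card_le hlt.le (hmax A' ⟨hA', h⟩))
    exact absurd (hBZ₁.trans (sInf_le (maxIn_of_mem_le hA' (le_inf hA'.1 hA'L) inf_le_left))) hnB

end Cfsg.Agent.CoprimeZJ
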